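import Cfsg.Agent.Lib.Sporadic.J4Order.Count

/-!
# The group generated is simple (owner: helper21)
-/

set_option autoImplicit false
set_option maxRecDepth 40000

namespace CfsgLib.Sporadic.J4Order

open CfsgLib.Sporadic.J4Rep (V)
open scoped Pointwise

theorem sums_dividing : ∀ J : Finset (Fin 7), 0 ∈ J → (∑ j ∈ J, lenOf j) ∣ 86775571046077562880 →
    (∑ j ∈ J, lenOf j) = 1 ∨ (∑ j ∈ J, lenOf j) = 173067389 := by decide +kernel

theorem lenOf_eq_one : ∀ j : Fin 7, lenOf j = 1 → j.val = 0 := by decide +kernel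

theorem tw_check : (Nat.blt twE 2048 && Nat.blt twK 11 && nW twN && eqW ([4] ++ eW twE ++ [4]) twN &&
    neW (twN ++ [6 + twK]) ([6 + twK] ++ twN) 1) = true := by decide +kernel

/-- The number of letters standing for the third generator. -/
noncomputable def countT (w : List ℕ) : ℕ :=
  List.rec 0 (fun k _ ih => cond (Nat.blt k 4) ih (Nat.succ ih)) w

theorem odd_word : ((eWords.getD 1 []).all (fun k => Nat.blt k 6) && Nat.beq (countT (eWords.getD 1 []) % 2) 1) =
    true := by decide +kernel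

theorem el_mul_tP_pow {M : Subgroup (Equiv.Perm V)} (hN : nG ≤ M) (hconj : ∀ m ∈ M, tP * m * tP ∈ M) :
    ∀ {w : List ℕ}, (∀ k ∈ w, k < 6) → el w * tP ^ countT w ∈ M
  | [], _ => by
    show el [] * tP ^ 0 ∈ M
    rw [el_nil, pow_zero, one_mul]
    exact one_mem M
  | k :: w, h => by
    have ih := el_mul_tP_pow hN hconj fun j hj => h j (List.mem_cons_of_mem _ hj)
    have hk := h k List.mem_cons_self
    show el (k :: w) * tP ^ cond (Nat.blt k 4) (countT w) (Nat.succ (countT w)) ∈ M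
    by_cases h4 : k < 4
    · rw [show Nat.blt k 4 = true by simpa using h4, cond_true, el_cons, mul_assoc]
      exact mul_mem (hN (let2_mem_nG (Or.inl h4))) ih
    · rw [show Nat.blt k 4 = false from Bool.eq_false_iff.2 (by simpa using h4), cond_false, el_cons]
      have e : let2 k = tP := by
        rcases (show k = 4 ∨ k = 5 by omega) with rfl | rfl
        · rfl
        · rw [show let2 5 = tP⁻¹ by rw [tP, let2_inv (by norm_num)]; rfl, tP_inv]
      rw [e, pow_succ, show tP * el w * (tP ^ countT w * tP) = tP * (el w * tP ^ countT w) * tP by group]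
      exact hconj _ ih

theorem eq_top_of_meet {M : Subgroup (Equiv.Perm V)} (hMH : M ≤ hG)
    (hconj : ∀ h ∈ hG, ∀ m ∈ M, h * m * h⁻¹ ∈ M) {u : Equiv.Perm V} (huM : u ∈ M) (huN : u ∈ nG)
    (hu1 : u ≠ 1) : M = hG := by
  haveI := K0_simple.1
  have hnorm : ∀ g < 2, xyGen g ∈ Subgroup.normalizer ((M ⊓ eG : Subgroup (Equiv.Perm V)) : Set (Equiv.Perm V)) := by
    intro g hg
    have hgH : xyGen g ∈ hG := by
      unfold xyGen
      split <;> exact let2_mem_hG (by norm_num)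
    rw [Subgroup.mem_normalizer_iff]
    intro x
    have hE := Subgroup.mem_normalizer_iff.1 (xyGen_mem_normalizer hg) x
    refine ⟨fun hx => Subgroup.mem_inf.2 ⟨hconj _ hgH x hx.1, hE.1 hx.2⟩, fun hx => Subgroup.mem_inf.2 ⟨?_, hE.2 hx.2⟩⟩
    have h := hconj _ (inv_mem hgH) _ hx.1
    rwa [inv_inv, show (xyGen g)⁻¹ * (xyGen g * x * (xyGen g)⁻¹) * xyGen g = x by group] at h
  have hE : eG ≤ M := by
    by_cases hne : ∃ a < 2048, a ≠ 0 ∧ eA a ∈ M ⊓ eG
    · obtain ⟨a, ha, ha0, hm⟩ := hne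
      exact (eG_le_of_normalized hnorm ha ha0 hm).trans inf_le_left
    exfalso
    push Not at hne
    have hcomm : ∀ e ∈ eG, u * e = e * u := by
      intro e he
      have h1 : u * e * u⁻¹ * e⁻¹ ∈ M ⊓ eG := by
        refine Subgroup.mem_inf.2 ⟨?_, mul_mem ((Subgroup.mem_normalizer_iff.1 (nG_le_normalizer huN) e).1 he) (inv_mem he)⟩
        rw [show u * e * u⁻¹ * e⁻¹ = u * (e * u⁻¹ * e⁻¹) by group]
        exact mul_mem huM (hconj e (nG_le_hG (eG_le_nG he)) _ (inv_mem huM))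
      obtain ⟨a, ha, e'⟩ := (Subgroup.mem_inf.1 h1).2
      have : a = 0 := by
        by_contra ha0
        exact hne a ha ha0 (e' ▸ h1)
      rw [this, eA_zero] at e'
      rw [mul_inv_eq_one, mul_inv_eq_iff_eq_mul] at e'
      exact e'
    obtain ⟨e0, he0, g, rfl⟩ := mem_nG.1 huN
    have hab : ∀ x ∈ eG, ∀ y ∈ eG, Commute x y := by
      rintro _ ⟨a, ha, rfl⟩ _ ⟨b, hb, rfl⟩
      show eA a * eA b = eA b * eA a
      rw [← eA_xor, ← eA_xor, Nat.xor_comm]
    let C : Subgroup J4Pres.K0 :=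
      { carrier := {g | ∀ e ∈ eG, Commute (rK g) e}
        one_mem' := fun e _ => by rw [map_one]; exact Commute.one_left e
        mul_mem' := fun hx hy e he => by rw [map_mul]; exact (hx e he).mul_left (hy e he)
        inv_mem' := fun hx e he => by rw [map_inv]; exact (hx e he).inv_left }
    have hC : C.Normal := ⟨fun x hx y e he => by
      have hy : (rK y)⁻¹ * e * rK y ∈ eG := by
        have := (Subgroup.mem_normalizer_iff.1 (rK_le_normalizer (inv_mem (show rK y ∈ rK.range from ⟨y, rfl⟩))) e).1 he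
        rwa [inv_inv] at this
      have h := (hx _ hy).eq
      show rK (y * x * y⁻¹) * e = e * rK (y * x * y⁻¹)
      rw [map_mul, map_mul, map_inv]
      calc rK y * rK x * (rK y)⁻¹ * e = rK y * (rK x * ((rK y)⁻¹ * e * rK y)) * (rK y)⁻¹ := by group
        _ = rK y * ((rK y)⁻¹ * e * rK y * rK x) * (rK y)⁻¹ := by rw [h]
        _ = e * (rK y * rK x * (rK y)⁻¹) := by group⟩
    have hgC : g ∈ C := by
      intro e he
      have h : Commute (e0 * rK g) e := hcomm e he
      have h2 := (Commute.inv_left (hab e0 he0 e he)).mul_left h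
      rwa [inv_mul_cancel_left] at h2
    rcases hC.eq_bot_or_eq_top with hb | ht
    · have hg1 : g = 1 := (Subgroup.eq_bot_iff_forall _).1 hb g hgC
      rw [hg1, map_one, mul_one] at huM hu1
      obtain ⟨a, ha, rfl⟩ := he0
      exact hne a ha (fun h0 => hu1 (by rw [h0, eA_zero])) ⟨huM, eA_mem ha⟩
    · have hX : Commute (let2 0) (let2 6) := by
        have h : J4Pres.L 0 ∈ C := ht ▸ Subgroup.mem_top _
        have := h _ (let2_mem_eG (i := 0) (by norm_num))
        rwa [rK_L (by norm_num)] at this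
      have hne' : neW [0, 6] [6, 0] 1 = true := by decide +kernel
      exact el_ne hne' (by simpa [el] using hX.eq)
  have h := tw_check
  simp only [Bool.and_eq_true, Nat.blt_eq] at h
  obtain ⟨⟨⟨⟨h1, h2⟩, h3⟩, h4⟩, h5⟩ := h
  have hnN : el twN ∈ nG := el_mem_nG (nW_iff.1 h3)
  have hnM : el twN ∈ M := by
    rw [← el_eq h4, el_append, el_append, el_single]
    have h := hconj tP tP_mem _ (hE (eA_mem h1))
    rwa [tP_inv] at h
  obtain ⟨e, he, g, hg⟩ := mem_nG.1 hnN
  have hg1 : g ≠ 1 := by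
    rintro rfl
    rw [map_one, mul_one] at hg
    refine el_ne h5 ?_
    rw [el_append, el_append, el_single, hg]
    obtain ⟨a, -, rfl⟩ := he
    exact ((commute_eWN h2 a 11 le_rfl).eq).symm
  have hgM : rK g ∈ M := by
    have : rK g = e⁻¹ * el twN := by rw [hg, inv_mul_cancel_left]
    rw [this]
    exact mul_mem (inv_mem (hE he)) hnM
  have hK : (M.comap rK).Normal := ⟨fun x hx y => by
    rw [Subgroup.mem_comap, map_mul, map_mul, map_inv]
    exact hconj _ (nG_le_hG (rK_mem_nG y)) _ hx⟩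
  have hN : nG ≤ M := by
    rcases hK.eq_bot_or_eq_top with hb | ht
    · exact absurd ((Subgroup.eq_bot_iff_forall _).1 hb g hgM) hg1
    · refine sup_le hE ?_
      rintro _ ⟨x, rfl⟩
      exact (ht ▸ Subgroup.mem_top x : x ∈ M.comap rK)
  have hT : tP ∈ M := by
    have ho := odd_word
    rw [Bool.and_eq_true, List.all_eq_true] at ho
    have h := el_mul_tP_pow hN (fun m hm => by simpa [tP_inv] using hconj tP tP_mem m hm)
      (w := eWords.getD 1 []) (fun k hk => by simpa using ho.1 k hk)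
    have hew := List.all_eq_true.1 ew_check 1 (List.mem_range.2 (by norm_num))
    rw [Bool.and_eq_true] at hew
    have he : el (eWords.getD 1 []) ∈ M := by
      rw [el_eq hew.2, el_single]
      exact hE (let2_mem_eG (i := 1) (by norm_num))
    have h' := (Subgroup.mul_mem_cancel_left M he).1 h
    have e2 : tP ^ 2 = 1 := by rw [pow_two, tP_sq]
    rwa [pow_eq_pow_mod _ e2, Nat.eq_of_beq_eq_true ho.2, pow_one] at h'
  refine le_antisymm hMH ?_
  rw [hG, Subgroup.closure_le]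
  rintro _ (rfl | rfl | rfl)
  · exact hN (let2_mem_nG (by norm_num))
  · exact hN (let2_mem_nG (by norm_num))
  · exact hT

theorem card_mul_nG {M : Subgroup (Equiv.Perm V)} (hbot : ∀ x ∈ M, x ∈ nG → x = 1) :
    ((M : Set (Equiv.Perm V)) * (nG : Set (Equiv.Perm V))).ncard = Nat.card M * Nat.card nG := by
  let f : M × nG → Equiv.Perm V := fun p => p.1 * p.2
  have hf : Function.Injective f := by
    intro p q h
    have h' : (p.1 : Equiv.Perm V) * p.2 = q.1 * q.2 := h
    have h1 : (q.1 : Equiv.Perm V)⁻¹ * p.1 = q.2 * (p.2 : Equiv.Perm V)⁻¹ := by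
      rw [eq_mul_inv_iff_mul_eq, mul_assoc, h', inv_mul_cancel_left]
    have h2 := hbot _ (mul_mem (inv_mem q.1.2) p.1.2) (h1 ▸ mul_mem q.2.2 (inv_mem p.2.2))
    have h3 : p.1 = q.1 := Subtype.ext (inv_mul_eq_one.1 h2).symm
    rw [h3] at h'
    exact Prod.ext h3 (Subtype.ext (mul_left_cancel h'))
  have e : Set.range f = (M : Set (Equiv.Perm V)) * (nG : Set (Equiv.Perm V)) := by
    ext x
    simp [f, Set.mem_mul]
  rw [← e, ← Nat.card_coe_set_eq, Nat.card_range_of_injective hf, Nat.card_prod]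

theorem card_M_cases {M : Subgroup (Equiv.Perm V)} (hMH : M ≤ hG)
    (hconj : ∀ h ∈ hG, ∀ m ∈ M, h * m * h⁻¹ ∈ M) (hbot : ∀ x ∈ M, x ∈ nG → x = 1) :
    Nat.card M = 1 ∨ Nat.card M = 173067389 := by
  classical
  let J : Finset (Fin 7) := Finset.univ.filter fun j =>
    rE j.val ∈ ((M : Set (Equiv.Perm V)) * (nG : Set (Equiv.Perm V)))
  have hMN : (M : Set (Equiv.Perm V)) * (nG : Set (Equiv.Perm V)) = ⋃ j ∈ J, dC j.val := by
    have hinv : ∀ a ∈ nG, ∀ b ∈ nG, ∀ x ∈ (M : Set (Equiv.Perm V)) * (nG : Set (Equiv.Perm V)),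
        a * x * b ∈ (M : Set (Equiv.Perm V)) * (nG : Set (Equiv.Perm V)) := by
      rintro a ha b hb _ ⟨m, hm, n, hn, rfl⟩
      exact ⟨a * m * a⁻¹, hconj a (nG_le_hG ha) m hm, a * n * b, mul_mem (mul_mem ha hn) hb, by group⟩
    ext x
    simp only [Set.mem_iUnion, exists_prop, J, Finset.mem_filter, Finset.mem_univ, true_and]
    constructor
    · intro hx
      have hxH : x ∈ hG := by
        obtain ⟨m, hm, n, hn, rfl⟩ := hx
        exact mul_mem (hMH hm) (nG_le_hG hn)
      obtain ⟨j, hj, a, ha, b, hb, rfl⟩ := mem_hG_iff.1 hxH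
      refine ⟨⟨j, hj⟩, ?_, a, ha, b, hb, rfl⟩
      have := hinv a⁻¹ (inv_mem ha) b⁻¹ (inv_mem hb) _ hx
      rwa [show a⁻¹ * (a * rE j * b) * b⁻¹ = rE j by group] at this
    · rintro ⟨j, hj, a, ha, b, hb, rfl⟩
      exact hinv a ha b hb _ hj
  have hcard : Nat.card M = ∑ j ∈ J, lenOf j := by
    have h := card_mul_nG hbot
    rw [hMN, union_card] at h
    exact (Nat.eq_of_mul_eq_mul_right Nat.card_pos h).symm
  have hdvd := Subgroup.card_dvd_of_le hMH
  rw [card_hG, hcard] at hdvd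
  rw [hcard]
  refine sums_dividing J ?_ hdvd
  simp only [J, Finset.mem_filter, Finset.mem_univ, true_and]
  exact ⟨1, one_mem M, 1, one_mem nG, (mul_one 1).trans rE_zero.symm⟩

theorem eq_one_of_commute {m : Equiv.Perm V} (hmH : m ∈ hG) (hc : ∀ n ∈ nG, n * m = m * n) : m ∈ nG := by
  obtain ⟨j, hj, a, ha, b, hb, hm⟩ := mem_hG_iff.1 hmH
  have hsub : dC j ⊆ (fun x => m * x) '' (nG : Set (Equiv.Perm V)) := by
    rintro _ ⟨a', ha', b', hb', rfl⟩
    refine ⟨a' * a⁻¹ * (b⁻¹ * b'), mul_mem (mul_mem ha' (inv_mem ha)) (mul_mem (inv_mem hb) hb'), ?_⟩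
    show m * (a' * a⁻¹ * (b⁻¹ * b')) = a' * rE j * b'
    rw [← mul_assoc, ← hc _ (mul_mem ha' (inv_mem ha)), hm]
    group
  have h1 : (dC j).ncard ≤ Nat.card nG := by
    refine (Set.ncard_le_ncard hsub (Set.toFinite _)).trans ?_
    refine (Set.ncard_image_le (Set.toFinite _)).trans (le_of_eq ?_)
    exact (Nat.card_coe_set_eq _).symm
  have h2 := union_card {⟨j, hj⟩}
  rw [Finset.sum_singleton] at h2
  simp only [Finset.mem_singleton, Set.iUnion_iUnion_eq_left] at h2
  rw [h2] at h1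
  have h3 : lenOf ⟨j, hj⟩ ≤ 1 := Nat.le_of_mul_le_mul_right (by rw [one_mul]; exact h1) Nat.card_pos
  have h4 : ∀ i : Fin 7, 0 < lenOf i := by decide +kernel
  have h5 := lenOf_eq_one ⟨j, hj⟩ (by have := h4 ⟨j, hj⟩; omega)
  simp only at h5
  subst h5
  rw [hm, rE_zero, mul_one]
  exact mul_mem ha hb

theorem commute_of_conj_pow {G : Type*} [Group G] {a b x : G} {i k : ℤ} (hi : a⁻¹ * x * a⁻¹⁻¹ = x ^ i)
    (hk : b⁻¹ * x * b⁻¹⁻¹ = x ^ k) : Commute (a * b * a⁻¹ * b⁻¹) x := by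
  have h1 : a⁻¹ * (b⁻¹ * x * b⁻¹⁻¹) * a⁻¹⁻¹ = x ^ (i * k) := by
    rw [hk, ← conj_zpow, hi, zpow_mul]
  have h2 : b⁻¹ * (a⁻¹ * x * a⁻¹⁻¹) * b⁻¹⁻¹ = x ^ (i * k) := by
    rw [hi, ← conj_zpow, hk, mul_comm i k, zpow_mul]
  show a * b * a⁻¹ * b⁻¹ * x = x * (a * b * a⁻¹ * b⁻¹)
  calc a * b * a⁻¹ * b⁻¹ * x = a * b * (a⁻¹ * (b⁻¹ * x * b⁻¹⁻¹) * a⁻¹⁻¹) * a⁻¹ * b⁻¹ := by group
    _ = a * b * (b⁻¹ * (a⁻¹ * x * a⁻¹⁻¹) * b⁻¹⁻¹) * a⁻¹ * b⁻¹ := by rw [h1, h2]
    _ = x * (a * b * a⁻¹ * b⁻¹) := by group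

theorem no_small_normal {M : Subgroup (Equiv.Perm V)} (hMH : M ≤ hG)
    (hconj : ∀ h ∈ hG, ∀ m ∈ M, h * m * h⁻¹ ∈ M) (hbot : ∀ x ∈ M, x ∈ nG → x = 1)
    (hcard : Nat.card M = 173067389) : False := by
  haveI : Fact (Nat.Prime 43) := ⟨by norm_num⟩
  obtain ⟨P⟩ : Nonempty (Sylow 43 M) := inferInstance
  have hP : Nat.card P = 43 := by
    have h1 : 43 ∣ Nat.card (P : Subgroup M) := P.dvd_card_of_dvd_card (by rw [hcard]; norm_num)
    obtain ⟨k, hk⟩ := IsPGroup.iff_card.1 P.2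
    have h2 : Nat.card (P : Subgroup M) ∣ 173067389 := hcard ▸ Subgroup.card_subgroup_dvd_card _
    rw [hk] at h1 h2
    rcases k with _ | _ | k
    · norm_num at h1
    · simpa using hk
    · exact absurd (dvd_trans (pow_dvd_pow 43 (show 2 ≤ k + 1 + 1 by omega)) h2) (by norm_num)
  have huniq : Subsingleton (Sylow 43 M) := by
    have h1 := card_sylow_modEq_one 43 M
    have h2 := P.card_dvd_index
    have hi : (P : Subgroup M).index = 4024823 := by
      have := (P : Subgroup M).card_mul_index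
      rw [hcard, show Nat.card (P : Subgroup M) = 43 from hP] at this
      omega
    rw [hi, show (4024823 : ℕ) = 11 ^ 2 * (29 * (31 * 37)) by norm_num] at h2
    obtain ⟨d1, d2, hd1, hd2, e⟩ := Nat.dvd_mul.1 h2
    obtain ⟨d3, d4, hd3, hd4, e'⟩ := Nat.dvd_mul.1 hd2
    obtain ⟨d5, d6, hd5, hd6, e''⟩ := Nat.dvd_mul.1 hd4
    obtain ⟨i, hi', rfl⟩ := (Nat.dvd_prime_pow (by norm_num)).1 hd1
    rw [← e, ← e', ← e''] at h1
    have h3 := (Nat.dvd_prime (by norm_num)).1 hd3
    have h5 := (Nat.dvd_prime (by norm_num)).1 hd5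
    have h6 := (Nat.dvd_prime (by norm_num)).1 hd6
    have key : Nat.card (Sylow 43 M) = 1 := by
      rw [← e, ← e', ← e'']
      rcases h3 with rfl | rfl <;> rcases h5 with rfl | rfl <;> rcases h6 with rfl | rfl <;> interval_cases i <;>
        (revert h1; decide)
    exact (Nat.card_eq_one_iff_unique.1 key).1
  have hnormal : (P : Subgroup M).Normal := Sylow.normal_of_subsingleton P
  have hchar : (P : Subgroup M).Characteristic := P.characteristic_of_normal hnormal
  have hP' : Nat.card ((P : Subgroup M).map M.subtype) = 43 := by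
    rw [Subgroup.card_map_of_injective M.subtype_injective]
    exact hP
  obtain ⟨x, hx⟩ := (isCyclic_of_prime_card hP').exists_generator
  have hnorm : ∀ h ∈ hG, ∀ y ∈ (P : Subgroup M).map M.subtype, h * y * h⁻¹ ∈ (P : Subgroup M).map M.subtype := by
    intro h hh y hy
    obtain ⟨z, hz, rfl⟩ := hy
    let σ : M ≃* M :=
      { toFun := fun m => ⟨h * m * h⁻¹, hconj h hh m m.2⟩
        invFun := fun m => ⟨h⁻¹ * m * h, by
          have := hconj h⁻¹ (inv_mem hh) m m.2
          rwa [inv_inv] at this⟩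
        left_inv := fun m => Subtype.ext (by group)
        right_inv := fun m => Subtype.ext (by group)
        map_mul' := fun m m' => Subtype.ext (by simp [mul_assoc]) }
    have := Subgroup.characteristic_iff_map_eq.1 hchar σ
    exact ⟨σ z, this ▸ Subgroup.mem_map_of_mem _ hz, rfl⟩
  have hpow : ∀ h ∈ hG, ∃ i : ℤ, h * (x : Equiv.Perm V) * h⁻¹ = (x : Equiv.Perm V) ^ i := by
    intro h hh
    obtain ⟨i, hi⟩ := Subgroup.mem_zpowers_iff.1 (hx ⟨_, hnorm h hh _ x.2⟩)
    exact ⟨i, (congrArg Subtype.val hi).symm⟩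
  have hcent : ∀ n ∈ nG, n * (x : Equiv.Perm V) = x * n := by
    have hle : ⁅nG, nG⁆ ≤ Subgroup.centralizer {(x : Equiv.Perm V)} := by
      rw [Subgroup.commutator_le]
      intro a ha b hb
      obtain ⟨i, hi⟩ := hpow a⁻¹ (inv_mem (nG_le_hG ha))
      obtain ⟨k, hk⟩ := hpow b⁻¹ (inv_mem (nG_le_hG hb))
      rw [Subgroup.mem_centralizer_singleton_iff, commutatorElement_def]
      exact (commute_of_conj_pow hi hk).eq
    intro n hn
    rw [← nG_perfect] at hn
    exact Subgroup.mem_centralizer_singleton_iff.1 (hle hn)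
  have hxM : (x : Equiv.Perm V) ∈ M := Subgroup.map_subtype_le _ x.2
  have hx1 : (x : Equiv.Perm V) = 1 := hbot _ hxM (eq_one_of_commute (hMH hxM) hcent)
  have h1 : Nat.card ((P : Subgroup M).map M.subtype) = 1 := by
    rw [Nat.card_eq_one_iff_unique]
    refine ⟨⟨fun y z => ?_⟩, ⟨1⟩⟩
    have hx' : x = 1 := Subtype.ext hx1
    have hy := hx y
    have hz := hx z
    rw [hx', Subgroup.zpowers_one_eq_bot, Subgroup.mem_bot] at hy hz
    rw [hy, hz]
  rw [hP'] at h1
  norm_num at h1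

theorem hG_simple : IsSimpleGroup hG := by
  have hnt : Nontrivial hG := by
    rw [← Finite.one_lt_card_iff_nontrivial, card_hG]
    norm_num
  refine { toNontrivial := hnt, eq_bot_or_eq_top_of_normal := fun M₀ hM₀ => ?_ }
  set M := M₀.map hG.subtype with hMdef
  have hMH : M ≤ hG := Subgroup.map_subtype_le _
  have hconj : ∀ h ∈ hG, ∀ m ∈ M, h * m * h⁻¹ ∈ M := by
    rintro h hh _ ⟨m, hm, rfl⟩
    exact ⟨⟨h, hh⟩ * m * (⟨h, hh⟩ : hG)⁻¹, hM₀.conj_mem m hm ⟨h, hh⟩, rfl⟩
  have hinj : Function.Injective (Subgroup.map hG.subtype) := Subgroup.map_injective hG.subtype_injective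
  by_cases hu : ∃ u ∈ M, u ∈ nG ∧ u ≠ 1
  · obtain ⟨u, hu1, hu2, hu3⟩ := hu
    refine Or.inr (hinj ?_)
    rw [← hMdef, eq_top_of_meet hMH hconj hu1 hu2 hu3, ← MonoidHom.range_eq_map, Subgroup.range_subtype]
  · push Not at hu
    rcases card_M_cases hMH hconj hu with h | h
    · refine Or.inl (hinj ?_)
      rw [← hMdef, Subgroup.eq_bot_of_card_eq M h, Subgroup.map_bot]
    · exact absurd h fun h => no_small_normal hMH hconj hu h

end CfsgLib.Sporadic.J4Order
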