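import Cfsg.Agent.Lib.Sporadic.J4Order.Rows
import Cfsg.Agent.Lib.Sporadic.J4Order.DataD3

/-!
# Checks for double coset 3 (owner: helper21)
-/

set_option autoImplicit false
set_option maxRecDepth 100000

namespace CfsgLib.Sporadic.J4Order

theorem gens3_ok : gensOK (repWs.getD 3 []) gens3 = true := by decide +kernel

theorem roots3_ok : rootsOK (repWs.getD 3 []) roots3 = true := by decide +kernel

theorem tree3_ok : treeOK (gens3.map gW) blocks3 (roots3.map (·.1)) = true := by decide +kernel

theorem bound3_ok : boundOK gens3 levels3 147456 = true := by decide +kernel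

end CfsgLib.Sporadic.J4Order
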