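import Cfsg.Agent.Lib.Sporadic.J4Order.Rows
import Cfsg.Agent.Lib.Sporadic.J4Order.DataD4

/-!
# Checks for double coset 4 (owner: helper21)
-/

set_option autoImplicit false
set_option maxRecDepth 100000

namespace CfsgLib.Sporadic.J4Order

theorem gens4_ok : gensOK (repWs.getD 4 []) gens4 = true := by decide +kernel

theorem roots4_ok : rootsOK (repWs.getD 4 []) roots4 = true := by decide +kernel

theorem tree4_ok : treeOK (gens4.map gW) blocks4 (roots4.map (·.1)) = true := by decide +kernel

theorem bound4_ok : boundOK gens4 levels4 9216 = true := by decide +kernel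

end CfsgLib.Sporadic.J4Order
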