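import Cfsg.Agent.Lib.Sporadic.J4Order.Rows
import Cfsg.Agent.Lib.Sporadic.J4Order.DataD5

/-!
# Checks for double coset 5 (owner: helper21)
-/

set_option autoImplicit false
set_option maxRecDepth 100000

namespace CfsgLib.Sporadic.J4Order

theorem gens5_ok : gensOK (repWs.getD 5 []) gens5 = true := by decide +kernel

theorem roots5_ok : rootsOK (repWs.getD 5 []) roots5 = true := by decide +kernel

theorem tree5_ok : treeOK (gens5.map gW) blocks5 (roots5.map (·.1)) = true := by decide +kernel

theorem bound5_ok : boundOK gens5 levels5 6072 = true := by decide +kernel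

end CfsgLib.Sporadic.J4Order
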