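import Cfsg.Agent.Lib.Sporadic.J4Order.Rows
import Cfsg.Agent.Lib.Sporadic.J4Order.DataD6

/-!
# Checks for double coset 6 (owner: helper21)
-/

set_option autoImplicit false
set_option maxRecDepth 100000

namespace CfsgLib.Sporadic.J4Order

theorem gens6_ok : gensOK (repWs.getD 6 []) gens6 = true := by decide +kernel

theorem roots6_ok : rootsOK (repWs.getD 6 []) roots6 = true := by decide +kernel

theorem tree6_ok : treeOK (gens6.map gW) blocks6 (roots6.map (·.1)) = true := by decide +kernel

theorem bound6_ok : boundOK gens6 levels6 17694720 = true := by decide +kernel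

end CfsgLib.Sporadic.J4Order
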