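import Cfsg.Agent.Lib.Sporadic.J4Order.Points
import Cfsg.Agent.Lib.Sporadic.J4Order.CertD2
import Cfsg.Agent.Lib.Sporadic.J4Order.CertD3
import Cfsg.Agent.Lib.Sporadic.J4Order.CertD4
import Cfsg.Agent.Lib.Sporadic.J4Order.CertD5
import Cfsg.Agent.Lib.Sporadic.J4Order.CertD6

/-!
# The group generated is a union of seven double cosets (owner: helper21)
-/

set_option autoImplicit false
set_option maxRecDepth 40000

namespace CfsgLib.Sporadic.J4Order

open CfsgLib.Sporadic.J4Rep (V runW)

/-- A representative. -/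
noncomputable def rE (i : ℕ) : Equiv.Perm V := el (repWs.getD i [])

/-- The union of the seven double cosets. -/
def inS (x : Equiv.Perm V) : Prop := ∃ j < 7, ∃ a ∈ nG, ∃ b ∈ nG, x = a * rE j * b

theorem rE_zero : rE 0 = 1 := by rw [rE, repW_zero, el_nil]

theorem rE_one : rE 1 = tP := by rw [rE, repW_one, el_single, tP]

theorem inS_left {x : Equiv.Perm V} (h : inS x) {m : Equiv.Perm V} (hm : m ∈ nG) : inS (m * x) := by
  obtain ⟨j, hj, a, ha, b, hb, rfl⟩ := h
  exact ⟨j, hj, m * a, mul_mem hm ha, b, hb, by group⟩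

theorem inS_right {x : Equiv.Perm V} (h : inS x) {m : Equiv.Perm V} (hm : m ∈ nG) : inS (x * m) := by
  obtain ⟨j, hj, a, ha, b, hb, rfl⟩ := h
  exact ⟨j, hj, a, ha, b * m, mul_mem hb hm, by group⟩

theorem good_all (i : ℕ) {gs : List (ℕ × List ℕ × List ℕ)}
    {rows : List (ℕ × List ℕ × ℕ × List ℕ × List ℕ)} {bs : List (ℕ × ℕ × ℕ × ℕ)}
    (hg : gensOK (repWs.getD i []) gs = true) (hr : rootsOK (repWs.getD i []) rows = true)
    (ht : treeOK (gs.map gW) bs (rows.map (·.1)) = true) :
    ∀ n ∈ nG, inS (tP * n * rE i) := by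
  have key : ∀ p < 15180, ∀ n ∈ nG, n⁻¹ (vA 0) = vA p → inS (tP * n * rE i) := by
    intro p hp
    refine treeOK_sound ht (fun p => ∀ n ∈ nG, n⁻¹ (vA 0) = vA p → inS (tP * n * rE i)) ?_ ?_ hp
    · intro g p c hgl he hgood n hn hc
      obtain ⟨d, hd, hd'⟩ := mem_of_tree hg hgl he
      have hdN := dG_le_nG hg hd
      have h := hgood (n * d) (mul_mem hn hdN) (by
        rw [mul_inv_rev, Equiv.Perm.mul_apply, hc, ← hd', Equiv.Perm.coe_inv, Equiv.symm_apply_apply])
      have hw : (rE i)⁻¹ * d * rE i ∈ nG := conj_mem_nG hg hd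
      have e : tP * n * rE i = tP * (n * d) * rE i * ((rE i)⁻¹ * d * rE i)⁻¹ := by group
      rw [e]
      exact inS_right h (inv_mem hw)
    · intro p hp n hn hc
      obtain ⟨row, hrow, rfl⟩ := List.mem_map.1 hp
      obtain ⟨p, π, j, n1, n2⟩ := row
      simp only [rootsOK, List.all_eq_true] at hr
      have h := hr _ hrow
      simp only [Bool.and_eq_true, Nat.blt_eq] at h
      obtain ⟨⟨⟨⟨⟨h1, h2⟩, h3⟩, h4⟩, h5⟩, h6⟩ := h
      have hπlt : ∀ k ∈ π, k < 17 := fun k hk => by
        rcases nW_iff.1 h1 k hk with h | h <;> omega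
      have hπ : el π (vA 0) = vA p := el_vA_eq hπlt (Nat.eq_of_beq_eq_true h2)
      have hπN : el π ∈ nG := el_mem_nG (nW_iff.1 h1)
      have hk : n * el π ∈ dG gens1 := points.1 _ (mul_mem hn hπN) (by
        rw [Equiv.Perm.mul_apply, hπ]
        show n (vA p) = vA 0
        rw [show vA p = n⁻¹ (vA 0) from hc.symm, Equiv.Perm.coe_inv, Equiv.apply_symm_apply])
      have hTk := conj_mem_nG gens1_ok hk
      rw [repW_one, el_single] at hTk
      change tP⁻¹ * (n * el π) * tP ∈ nG at hTk
      have e6 := el_eq h6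
      rw [el_append, el_append, el_append, el_append, el_single, el_invW hπlt] at e6
      have e : tP * n * rE i = (tP⁻¹ * (n * el π) * tP) * (tP * (el π)⁻¹ * rE i) := by
        rw [tP_inv]
        simp only [mul_assoc]
        rw [← mul_assoc tP tP, tP_sq, one_mul, mul_inv_cancel_left]
      rw [e]
      refine inS_left ?_ hTk
      exact ⟨j, h3, el n1, el_mem_nG (nW_iff.1 h4), el n2, el_mem_nG (nW_iff.1 h5), e6⟩
  intro n hn
  obtain ⟨p, hp, e⟩ := points.2 n⁻¹ (inv_mem hn)
  exact key p hp n hn e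

theorem inS_tP {x : Equiv.Perm V} (h : inS x) : inS (tP * x) := by
  obtain ⟨j, hj, a, ha, b, hb, rfl⟩ := h
  have e : tP * (a * rE j * b) = tP * a * rE j * b := by group
  rw [e]
  refine inS_right ?_ hb
  interval_cases j
  · exact good_all 0 gens0_ok roots0_ok tree0_ok a ha
  · exact good_all 1 gens1_ok roots1_ok tree1_ok a ha
  · exact good_all 2 gens2_ok roots2_ok tree2_ok a ha
  · exact good_all 3 gens3_ok roots3_ok tree3_ok a ha
  · exact good_all 4 gens4_ok roots4_ok tree4_ok a ha
  · exact good_all 5 gens5_ok roots5_ok tree5_ok a ha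
  · exact good_all 6 gens6_ok roots6_ok tree6_ok a ha

/-- The group generated by the three generators. -/
noncomputable def hG : Subgroup (Equiv.Perm V) := Subgroup.closure {let2 0, let2 2, tP}

theorem tP_mem : tP ∈ hG := Subgroup.subset_closure (by simp)

theorem ew_check : (List.range 11).all
    (fun i => (eWords.getD i []).all (fun k => Nat.blt k 6) && eqW (eWords.getD i []) [6 + i]) = true := by
  decide +kernel

theorem let2_mem_hG {k : ℕ} (hk : k < 17) : let2 k ∈ hG := by
  have h0 : let2 0 ∈ hG := Subgroup.subset_closure (by simp)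
  have h2 : let2 2 ∈ hG := Subgroup.subset_closure (by simp)
  have hsmall : ∀ k < 6, let2 k ∈ hG := by
    intro k hk
    interval_cases k
    · exact h0
    · rw [show let2 1 = (let2 0)⁻¹ by rw [let2_inv (by norm_num)]; rfl]; exact inv_mem h0
    · exact h2
    · rw [show let2 3 = (let2 2)⁻¹ by rw [let2_inv (by norm_num)]; rfl]; exact inv_mem h2
    · exact tP_mem
    · rw [show let2 5 = tP⁻¹ by rw [tP, let2_inv (by norm_num)]; rfl]; exact inv_mem tP_mem
  by_cases h6 : k < 6
  · exact hsmall k h6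
  · obtain ⟨i, rfl⟩ := Nat.exists_eq_add_of_le (Nat.le_of_not_lt h6)
    have h := List.all_eq_true.1 ew_check i (List.mem_range.2 (by omega))
    rw [Bool.and_eq_true, List.all_eq_true] at h
    have e := el_eq h.2
    rw [el_single] at e
    rw [← e]
    have hel : ∀ w : List ℕ, (∀ k ∈ w, k < 6) → el w ∈ hG := by
      intro w
      induction w with
      | nil => exact fun _ => one_mem _
      | cons a w ih =>
        intro ha
        rw [el_cons]
        exact mul_mem (hsmall a (ha a List.mem_cons_self)) (ih fun k hk => ha k (List.mem_cons_of_mem _ hk))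
    exact hel _ fun k hk => by simpa using h.1 k hk

theorem el_mem_hG : ∀ {w : List ℕ}, (∀ k ∈ w, k < 17) → el w ∈ hG
  | [], _ => one_mem _
  | k :: w, h => by
    rw [el_cons]
    exact mul_mem (let2_mem_hG (h k List.mem_cons_self)) (el_mem_hG fun j hj => h j (List.mem_cons_of_mem _ hj))

theorem rK_range_le : rK.range ≤ hG := by
  rw [rK_range, Subgroup.closure_le]
  rintro _ (rfl | rfl) <;> exact let2_mem_hG (by norm_num)

theorem nG_le_hG : nG ≤ hG := by
  refine sup_le ?_ rK_range_le
  rintro _ ⟨a, -, rfl⟩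
  exact el_mem_hG fun k hk => (mem_eW hk).2

theorem rE_mem {j : ℕ} (hj : j < 7) : rE j ∈ hG := by
  have h : (List.range 7).all (fun j => okW (repWs.getD j [])) = true := by decide +kernel
  exact el_mem_hG (okW_iff.1 (List.all_eq_true.1 h j (List.mem_range.2 hj)))

theorem mem_hG_iff {x : Equiv.Perm V} : x ∈ hG ↔ inS x := by
  refine ⟨fun h => ?_, ?_⟩
  · have h0 : let2 0 ∈ nG := let2_mem_nG (by norm_num)
    have h2 : let2 2 ∈ nG := let2_mem_nG (by norm_num)
    induction h using Subgroup.closure_induction_left with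
    | one => exact ⟨0, by norm_num, 1, one_mem _, 1, one_mem _, by rw [rE_zero, one_mul, one_mul]⟩
    | mul_left y hy z _ ih =>
      rcases hy with rfl | rfl | rfl
      · exact inS_left ih h0
      · exact inS_left ih h2
      · exact inS_tP ih
    | inv_mul_cancel y hy z _ ih =>
      rcases hy with rfl | rfl | rfl
      · exact inS_left ih (inv_mem h0)
      · exact inS_left ih (inv_mem h2)
      · rw [tP_inv]; exact inS_tP ih
  · rintro ⟨j, hj, a, ha, b, hb, rfl⟩
    exact mul_mem (mul_mem (nG_le_hG ha) (rE_mem hj)) (nG_le_hG hb)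

end CfsgLib.Sporadic.J4Order
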