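import Cfsg.Agent.Lib.Sporadic.J4Order.Word
import Cfsg.Agent.Lib.Sporadic.J4Order.DataMain

/-!
# The translations: an elementary abelian group of order 2048, irreducible under the two generators (owner: helper21)
-/

set_option autoImplicit false
set_option maxRecDepth 40000

namespace CfsgLib.Sporadic.J4Order

open CfsgLib.Sporadic.J4Rep (V app app_xor app_lt)

/-- The word of a translation given by eleven bits, restricted to the first `n`. -/
noncomputable def eWN (n a : ℕ) : List ℕ :=
  (List.range n).flatMap fun i => cond (a.testBit i) [6 + i] []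

/-- The word of a translation given by eleven bits. -/
noncomputable def eW (a : ℕ) : List ℕ := eWN 11 a

/-- A translation. -/
noncomputable def eA (a : ℕ) : Equiv.Perm V := el (eW a)

theorem eWN_succ (n a : ℕ) : eWN (n + 1) a = eWN n a ++ cond (a.testBit n) [6 + n] [] := by
  simp [eWN, List.range_succ]

theorem mem_eW {a k : ℕ} (h : k ∈ eW a) : 6 ≤ k ∧ k < 17 := by
  simp only [eW, eWN, List.mem_flatMap, List.mem_range] at h
  obtain ⟨i, hi, hk⟩ := h
  cases ha : a.testBit i <;> rw [ha] at hk <;> simp at hk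
  omega

theorem comm_check : (List.range 11).all (fun i => eqW [6 + i, 6 + i] [] &&
    (List.range 11).all fun j => eqW [6 + i, 6 + j] [6 + j, 6 + i]) = true := by decide +kernel

theorem e_sq {i : ℕ} (hi : i < 11) : let2 (6 + i) * let2 (6 + i) = 1 := by
  have h := List.all_eq_true.1 comm_check i (List.mem_range.2 hi)
  rw [Bool.and_eq_true] at h
  simpa [el] using el_eq h.1

theorem e_comm {i j : ℕ} (hi : i < 11) (hj : j < 11) : Commute (let2 (6 + i)) (let2 (6 + j)) := by
  have h := List.all_eq_true.1 comm_check i (List.mem_range.2 hi)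
  rw [Bool.and_eq_true, List.all_eq_true] at h
  have h' := el_eq (h.2 j (List.mem_range.2 hj))
  simpa [el, Commute, SemiconjBy] using h'

theorem commute_eWN {i : ℕ} (hi : i < 11) (a : ℕ) : ∀ n, n ≤ 11 → Commute (let2 (6 + i)) (el (eWN n a))
  | 0, _ => Commute.one_right _
  | n + 1, h => by
    rw [eWN_succ, el_append]
    refine (commute_eWN hi a n (by omega)).mul_right ?_
    cases a.testBit n
    · exact Commute.one_right _
    · rw [cond_true, el_single]
      exact e_comm hi (by omega)

theorem eWN_xor (a b : ℕ) : ∀ n, n ≤ 11 → el (eWN n (a ^^^ b)) = el (eWN n a) * el (eWN n b)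
  | 0, _ => (one_mul _).symm
  | n + 1, h => by
    rw [eWN_succ, eWN_succ, eWN_succ, el_append, el_append, el_append, eWN_xor a b n (by omega),
      Nat.testBit_xor]
    have hc := commute_eWN (i := n) (by omega) b n (by omega)
    have hs := e_sq (i := n) (by omega)
    cases a.testBit n <;> cases b.testBit n <;> simp only [Bool.false_bne, Bool.true_bne, Bool.not_false,
      Bool.not_true, cond_true, cond_false, el_nil, el_single, mul_one]
    · exact mul_assoc _ _ _
    · rw [mul_assoc, mul_assoc, hc.eq]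
    · rw [mul_assoc (el (eWN n a)), ← mul_assoc (let2 (6 + n)), hc.eq, mul_assoc (el (eWN n b)), hs, mul_one]

theorem eA_xor (a b : ℕ) : eA (a ^^^ b) = eA a * eA b := eWN_xor a b 11 le_rfl

theorem eA_zero : eA 0 = 1 := by
  have : eW 0 = [] := by decide +kernel
  rw [eA, this, el_nil]

theorem eA_sq (a : ℕ) : eA a * eA a = 1 := by rw [← eA_xor, Nat.xor_self, eA_zero]

theorem eA_inv (a : ℕ) : (eA a)⁻¹ = eA a := inv_eq_of_mul_eq_one_right (eA_sq a)

theorem eA_unit {i : ℕ} (hi : i < 11) : eA (2 ^ i) = let2 (6 + i) := by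
  have h : (List.range 11).all (fun i => eW (2 ^ i) == [6 + i]) = true := by decide +kernel
  have h' := List.all_eq_true.1 h i (List.mem_range.2 hi)
  rw [eA, eq_of_beq h', el_single]

/-- The translations. -/
noncomputable def eG : Subgroup (Equiv.Perm V) where
  carrier := {x | ∃ a < 2048, x = eA a}
  one_mem' := ⟨0, by norm_num, eA_zero.symm⟩
  mul_mem' := by
    rintro _ _ ⟨a, ha, rfl⟩ ⟨b, hb, rfl⟩
    exact ⟨a ^^^ b, Nat.xor_lt_two_pow (n := 11) ha hb, (eA_xor a b).symm⟩
  inv_mem' := by
    rintro _ ⟨a, ha, rfl⟩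
    exact ⟨a, ha, eA_inv a⟩

theorem eA_mem {a : ℕ} (ha : a < 2048) : eA a ∈ eG := ⟨a, ha, rfl⟩

theorem let2_mem_eG {i : ℕ} (hi : i < 11) : let2 (6 + i) ∈ eG :=
  ⟨2 ^ i, Nat.pow_lt_pow_right (m := i) (n := 11) (by norm_num) hi, (eA_unit hi).symm⟩

/-- The conjugation maps. -/
def cjs : List (List ℕ) := [conjX, conjY]

theorem cj_check : ([(0, 0, 1), (1, 2, 3)] : List (ℕ × ℕ × ℕ)).all (fun p =>
    (List.range 11).all fun i => eqW [p.2.1, 6 + i, p.2.2] (eW (app (cjs.getD p.1 []) (2 ^ i)))) = true := by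
  decide +kernel

theorem cj_lt (g a : ℕ) (hg : g < 2) : app (cjs.getD g []) a < 2048 := by
  refine app_lt (n := 11) ?_ a
  have h : cjs.all (fun l => l.all fun c => Nat.blt c 2048) = true := by decide +kernel
  have h' := List.all_eq_true.1 h (cjs.getD g []) (by interval_cases g <;> simp [cjs])
  intro c hc
  simpa using List.all_eq_true.1 h' c hc

/-- The generators. -/
noncomputable def xyGen (g : ℕ) : Equiv.Perm V := if g = 0 then let2 0 else let2 2

theorem eA_conj {g : ℕ} (hg : g < 2) {a : ℕ} (ha : a < 2048) :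
    xyGen g * eA a * (xyGen g)⁻¹ = eA (app (cjs.getD g []) a) := by
  suffices H : ∀ n ≤ 11, ∀ a < 2 ^ n, xyGen g * eA a * (xyGen g)⁻¹ = eA (app (cjs.getD g []) a) from
    H 11 le_rfl a ha
  intro n
  induction n with
  | zero =>
    intro _ a ha
    obtain rfl : a = 0 := by simpa using ha
    rw [J4Rep.app_zero, eA_zero]
    group
  | succ n ih =>
    intro hn a ha
    by_cases h : a < 2 ^ n
    · exact ih (by omega) a h
    · have hlow : a ^^^ 2 ^ n < 2 ^ n := by
        refine Nat.lt_pow_two_of_testBit _ fun i hi => ?_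
        rw [Nat.testBit_xor, Nat.testBit_two_pow]
        rcases Nat.lt_or_eq_of_le hi with hi' | rfl
        · rw [Nat.testBit_eq_false_of_lt (lt_of_lt_of_le ha (Nat.pow_le_pow_right (by norm_num) hi'))]
          simp [Nat.ne_of_lt hi']
        · have : a / 2 ^ n = 1 := Nat.div_eq_of_lt_le (by omega) (by rw [pow_succ] at ha; omega)
          simp [Nat.testBit_eq_decide_div_mod_eq, this]
      obtain ⟨b, hb, rfl⟩ : ∃ b, b < 2 ^ n ∧ a = b ^^^ 2 ^ n :=
        ⟨a ^^^ 2 ^ n, hlow, by rw [Nat.xor_assoc, Nat.xor_self, Nat.xor_zero]⟩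
      have hu : xyGen g * eA (2 ^ n) * (xyGen g)⁻¹ = eA (app (cjs.getD g []) (2 ^ n)) := by
        have h := List.all_eq_true.1 cj_check
        interval_cases g
        · have h' := List.all_eq_true.1 (h _ List.mem_cons_self) n (List.mem_range.2 (by omega))
          rw [eA, eA, ← el_eq h', ← eA, eA_unit (by omega)]
          have e1 : (let2 0)⁻¹ = let2 1 := by rw [let2_inv (by norm_num)]; rfl
          have e0 : let2 1 = let2 0 := by
            have h0 : eqW [1] [0] = true := by decide +kernel
            simpa [el] using el_eq h0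
          simp [xyGen, el, e1, e0, mul_assoc]
        · have h' := List.all_eq_true.1 (h _ (List.mem_cons_of_mem _ List.mem_cons_self)) n
            (List.mem_range.2 (by omega))
          rw [eA, eA, ← el_eq h', ← eA, eA_unit (by omega)]
          have e1 : (let2 2)⁻¹ = let2 3 := by rw [let2_inv (by norm_num)]; rfl
          simp [xyGen, el, e1, mul_assoc]
      rw [app_xor, eA_xor, eA_xor, ← ih (by omega) b hb, ← hu]
      group

theorem xyGen_mem_normalizer {g : ℕ} (hg : g < 2) :
    xyGen g ∈ Subgroup.normalizer (eG : Set (Equiv.Perm V)) := by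
  rw [Subgroup.mem_normalizer_iff_map_conj_eq]
  refine Subgroup.eq_of_le_of_card_ge ?_
    (le_of_eq (Subgroup.card_map_of_injective (MulAut.conj (xyGen g)).injective).symm)
  rintro _ ⟨x, ⟨a, ha, rfl⟩, rfl⟩
  show xyGen g * eA a * (xyGen g)⁻¹ ∈ eG
  rw [eA_conj hg ha]
  exact eA_mem (cj_lt g a hg)

end CfsgLib.Sporadic.J4Order
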