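import Cfsg.Agent.Lib.Sporadic.J4Order.Rows
import Cfsg.Agent.Lib.Sporadic.J4Order.DataD0

/-!
# Checks for double coset 0 (owner: helper21)
-/

set_option autoImplicit false
set_option maxRecDepth 100000

namespace CfsgLib.Sporadic.J4Order

theorem gens0_ok : gensOK (repWs.getD 0 []) gens0 = true := by decide +kernel

theorem roots0_ok : rootsOK (repWs.getD 0 []) roots0 = true := by decide +kernel

theorem tree0_ok : treeOK (gens0.map gW) blocks0 (roots0.map (·.1)) = true := by decide +kernel

end CfsgLib.Sporadic.J4Order
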