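import Cfsg.Agent.Lib.Sporadic.J4Order.Rows
import Cfsg.Agent.Lib.Sporadic.J4Order.DataD1

/-!
# Checks for double coset 1 (owner: helper21)
-/

set_option autoImplicit false
set_option maxRecDepth 100000

namespace CfsgLib.Sporadic.J4Order

theorem gens1_ok : gensOK (repWs.getD 1 []) gens1 = true := by decide +kernel

theorem roots1_ok : rootsOK (repWs.getD 1 []) roots1 = true := by decide +kernel

theorem tree1_ok : treeOK (gens1.map gW) blocks1 (roots1.map (·.1)) = true := by decide +kernel

theorem bound1_ok : boundOK gens1 levels1 33030144 = true := by decide +kernel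

end CfsgLib.Sporadic.J4Order
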