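import Cfsg.Agent.Lib.Sporadic.J4Order.Word

set_option autoImplicit false
set_option maxRecDepth 20000

/-!
# Data: elements of odd prime order (owner: helper21)

Words are coded by their length and eight bits per letter.
-/

namespace CfsgLib.Sporadic.J4Order

/-- Elements of prime order. -/
noncomputable def primeWords : List (ℕ × List ℕ) :=
  [(29, wd 11 0x204020200040200020402),
    (31, wd 9 0x40204020004020402),
    (37, wd 6 0x404040202),
    (43, wd 11 0x402000004000204020002)]

/-- A generator of a subgroup of order 1331. -/
noncomputable def sylA : List ℕ := wd 55 0x3000300020002000300030003000200020002000300020003000300030003000300020002000200030003000300030002100f0c0a07

/-- A generator of a subgroup of order 1331. -/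
noncomputable def sylB : List ℕ := wd 166 0x20003000300020003000300020002000200030002000200020002000300020003000300030002000200020002000200030002000200100f0e0d0c060402000204000200030003000300030002000200030003000300030003000200030003000300020002000200030f0e0b0a07060003000300020002000300030003000200020002000300020003000300030003000300020002000200030003000300030002100f0c0a07

/-- A generator of a subgroup of order 1331. -/
noncomputable def sylC : List ℕ := wd 442 0x3000300020002000300030003000200020002000300020003000300030003000300020002000200030003000300030002100f0c0a07020003000300020003000300020002000200030002000200020002000300020003000300030002000200020002000200030002000200100f0e0d0c060402000204000200030003000300030002000200030003000300030003000200030003000300020002000200030f0e0b0a07060003000300020002000300030003000200020002000300020003000300030003000300020002000200030003000300030002100f0c0a07100f0c0a070300020002000200020003000300030002000200020002000200030002000300030003000200020002000300030002000200100f0c0a0703000200020002000200030003000300020002000200020002000300020003000300030002000200020003000300020002000f0e0b0a0706020003000300030002000200020003000200020002000200020003000300020002000200020003000403000304100f0e0d0c06000300030002000300030003000300030002000200020003000200030003000300030002000300030003000200020003000200020003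

end CfsgLib.Sporadic.J4Order
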