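import Mathlib

/-!
# A group with an extraspecial subgroup of order 1331 (owner: helper21)
-/

set_option autoImplicit false

namespace CfsgLib.Sporadic.J4Order

theorem dvd_card_of_heisenberg {G : Type*} [Group G] [Finite G] {H : Subgroup G} {a b c : G}
    (haH : a ∈ H) (hbH : b ∈ H) (hcH : c ∈ H)
    (ha : a ^ 11 = 1) (hb : b ^ 11 = 1) (hc : c ^ 11 = 1)
    (hba : b * a = a * b * c) (hac : Commute a c) (hbc : Commute b c) (hne : a * b ≠ b * a) :
    1331 ∣ Nat.card H := by
  have hc1 : c ≠ 1 := by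
    rintro rfl
    exact hne (by rw [hba, mul_one])
  have hord : orderOf c = 11 := by
    haveI : Fact (Nat.Prime 11) := ⟨by norm_num⟩
    exact orderOf_eq_prime hc hc1
  have h1 : ∀ j : ℕ, b ^ j * a = a * b ^ j * c ^ j := by
    intro j
    induction j with
    | zero => simp
    | succ j ih =>
      calc b ^ (j + 1) * a = b * (b ^ j * a) := by rw [pow_succ', mul_assoc]
        _ = b * a * (b ^ j * c ^ j) := by rw [ih]; group
        _ = a * b * (c * b ^ j) * c ^ j := by rw [hba]; group
        _ = a * b * (b ^ j * c) * c ^ j := by rw [((hbc.symm).pow_right j).eq]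
        _ = a * b ^ (j + 1) * c ^ (j + 1) := by rw [pow_succ' b, pow_succ' c]; group
  have h2 : ∀ i j : ℕ, b ^ j * a ^ i = a ^ i * b ^ j * c ^ (i * j) := by
    intro i j
    induction i with
    | zero => simp
    | succ i ih =>
      calc b ^ j * a ^ (i + 1) = a ^ i * b ^ j * (c ^ (i * j) * a) := by rw [pow_succ, ← mul_assoc, ih]; group
        _ = a ^ i * (b ^ j * a) * c ^ (i * j) := by rw [((hac.symm).pow_left (i * j)).eq]; group
        _ = a ^ i * a * b ^ j * (c ^ j * c ^ (i * j)) := by rw [h1]; group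
        _ = a ^ (i + 1) * b ^ j * c ^ ((i + 1) * j) := by
            rw [← pow_succ, ← pow_add, add_mul, one_mul, add_comm j]
  have hmul : ∀ i j k i' j' k' : ℕ, a ^ i * b ^ j * c ^ k * (a ^ i' * b ^ j' * c ^ k') =
      a ^ (i + i') * b ^ (j + j') * c ^ (i' * j + (k + k')) := by
    intro i j k i' j' k'
    calc a ^ i * b ^ j * c ^ k * (a ^ i' * b ^ j' * c ^ k')
        = a ^ i * b ^ j * (c ^ k * (a ^ i' * b ^ j')) * c ^ k' := by group
      _ = a ^ i * b ^ j * ((a ^ i' * b ^ j') * c ^ k) * c ^ k' := by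
          rw [(((hac.symm).pow_left k).pow_right i').mul_right (((hbc.symm).pow_left k).pow_right j') |>.eq]
      _ = a ^ i * (b ^ j * a ^ i') * b ^ j' * (c ^ k * c ^ k') := by group
      _ = a ^ i * a ^ i' * b ^ j * (c ^ (i' * j) * b ^ j') * (c ^ k * c ^ k') := by rw [h2]; group
      _ = a ^ i * a ^ i' * b ^ j * (b ^ j' * c ^ (i' * j)) * (c ^ k * c ^ k') := by
          rw [(((hbc.symm).pow_left (i' * j)).pow_right j').eq]
      _ = a ^ (i + i') * b ^ (j + j') * c ^ (i' * j + (k + k')) := by simp only [pow_add, mul_assoc]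
  let M : Submonoid G :=
    { carrier := {x | ∃ i j k : ℕ, x = a ^ i * b ^ j * c ^ k}
      one_mem' := ⟨0, 0, 0, by simp⟩
      mul_mem' := by
        rintro _ _ ⟨i, j, k, rfl⟩ ⟨i', j', k', rfl⟩
        exact ⟨_, _, _, hmul i j k i' j' k'⟩ }
  let P : Subgroup G :=
    { M with
      inv_mem' := fun {x} hx => by
        have hx' : x⁻¹ = x ^ (orderOf x - 1) := by
          apply inv_eq_of_mul_eq_one_right
          rw [← pow_succ', Nat.sub_add_cancel (orderOf_pos x), pow_orderOf_eq_one]
        rw [hx']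
        exact M.pow_mem hx _ }
  have hPH : P ≤ H := by
    rintro _ ⟨i, j, k, rfl⟩
    exact mul_mem (mul_mem (pow_mem haH i) (pow_mem hbH j)) (pow_mem hcH k)
  have hP : Nat.card P = 1331 := by
    let f : Fin 11 × Fin 11 × Fin 11 → P := fun q =>
      ⟨a ^ q.1.1 * b ^ q.2.1.1 * c ^ q.2.2.1, ⟨_, _, _, rfl⟩⟩
    have hf : Function.Bijective f := by
      refine ⟨fun q q' h => ?_, fun x => ?_⟩
      · obtain ⟨i, j, k⟩ := q
        obtain ⟨i', j', k'⟩ := q'
        have e : a ^ i.1 * b ^ j.1 * c ^ k.1 = a ^ i'.1 * b ^ j'.1 * c ^ k'.1 := congrArg Subtype.val h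
        have eR : ∀ i j k : ℕ, a ^ i * b ^ j * c ^ k * a = a * (a ^ i * b ^ j * c ^ k) * c ^ j := by
          intro i j k
          have h3 := hmul i j k 1 0 0
          have h4 := hmul 1 0 0 i j k
          simp only [pow_one, pow_zero, mul_one, one_mul, add_zero, zero_add, mul_zero] at h3 h4
          rw [h3, h4, add_comm i 1, add_comm j k, pow_add c k j, ← mul_assoc]
        have eL : ∀ i j k : ℕ, b * (a ^ i * b ^ j * c ^ k) = a ^ i * b ^ j * c ^ k * b * c ^ i := by
          intro i j k
          have h3 := hmul 0 1 0 i j k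
          have h4 := hmul i j k 0 1 0
          simp only [pow_one, pow_zero, mul_one, one_mul, add_zero, zero_add, zero_mul] at h3 h4
          rw [h3, h4, add_comm 1 j, add_comm i k, pow_add c k i, ← mul_assoc]
        have hj : j = j' := by
          have := eR i j k
          rw [e, eR i' j' k'] at this
          have := mul_left_cancel this
          rw [pow_eq_pow_iff_modEq, hord] at this
          exact Fin.ext (Nat.ModEq.eq_of_lt_of_lt this j'.2 j.2).symm
        have hi : i = i' := by
          have := eL i j k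
          rw [e, eL i' j' k'] at this
          have := mul_left_cancel this
          rw [pow_eq_pow_iff_modEq, hord] at this
          exact Fin.ext (Nat.ModEq.eq_of_lt_of_lt this i'.2 i.2).symm
        subst hi hj
        have hk := mul_left_cancel e
        rw [pow_eq_pow_iff_modEq, hord] at hk
        rw [Fin.ext (Nat.ModEq.eq_of_lt_of_lt hk k.2 k'.2)]
      · obtain ⟨i, j, k, hx⟩ := x.2
        refine ⟨(⟨i % 11, Nat.mod_lt _ (by norm_num)⟩, ⟨j % 11, Nat.mod_lt _ (by norm_num)⟩,
          ⟨k % 11, Nat.mod_lt _ (by norm_num)⟩), Subtype.ext ?_⟩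
        show a ^ (i % 11) * b ^ (j % 11) * c ^ (k % 11) = (x : G)
        rw [← pow_eq_pow_mod i ha, ← pow_eq_pow_mod j hb, ← pow_eq_pow_mod k hc, hx]
    rw [← Nat.card_eq_of_bijective f hf]
    simp
  rw [← hP]
  exact Subgroup.card_dvd_of_le hPH

end CfsgLib.Sporadic.J4Order
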