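import Cfsg.Agent.Lib.Sporadic.J4Order.Cosets
import Cfsg.Agent.Lib.Sporadic.J4Order.Extraspecial
import Cfsg.Agent.Lib.Sporadic.J4Order.DataOrders

/-!
# The order of the group generated (owner: helper21)
-/

set_option autoImplicit false
set_option maxRecDepth 40000

namespace CfsgLib.Sporadic.J4Order

open CfsgLib.Sporadic.J4Rep (V)

/-- A double coset. -/
def dC (j : ℕ) : Set (Equiv.Perm V) := {x | ∃ a ∈ nG, ∃ b ∈ nG, x = a * rE j * b}

/-- The number of cosets in a double coset. -/
noncomputable def lenOf (j : Fin 7) : ℕ := lens.getD j.val 0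

theorem dC_le {j : ℕ} {gs : List (ℕ × List ℕ × List ℕ)} {lo L : ℕ}
    (hg : gensOK (repWs.getD j []) gs = true) (hlo : lo ≤ Nat.card (dG gs)) (hL : L * lo = 2048 * 244823040)
    (hlo0 : 0 < lo) : (dC j).ncard ≤ L * Nat.card nG := by
  have hD : dG gs ≤ nG := dG_le_nG hg
  set D := (dG gs).subgroupOf nG with hDdef
  have hcard : Nat.card (nG ⧸ D) ≤ L := by
    have h := Subgroup.card_eq_card_quotient_mul_card_subgroup D
    rw [card_nG, ← hL, Nat.card_congr (Subgroup.subgroupOfEquivOfLe hD).toEquiv] at h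
    exact Nat.le_of_mul_le_mul_right ((Nat.mul_le_mul_left _ hlo).trans (le_of_eq h.symm)) hlo0
  let f : (nG ⧸ D) × nG → Equiv.Perm V := fun q => (q.1.out : Equiv.Perm V) * rE j * q.2
  have hsub : dC j ⊆ Set.range f := by
    rintro x ⟨a, ha, b, hb, rfl⟩
    let q : nG ⧸ D := QuotientGroup.mk ⟨a, ha⟩
    have hd : (q.out : nG)⁻¹ * ⟨a, ha⟩ ∈ D := QuotientGroup.eq.1 (Quotient.out_eq q)
    have hd' : (q.out : Equiv.Perm V)⁻¹ * a ∈ dG gs := hd
    have hw : (rE j)⁻¹ * ((q.out : Equiv.Perm V)⁻¹ * a) * rE j ∈ nG := conj_mem_nG hg hd'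
    refine ⟨(q, ⟨_, mul_mem hw hb⟩), ?_⟩
    show (q.out : Equiv.Perm V) * rE j * ((rE j)⁻¹ * ((q.out : Equiv.Perm V)⁻¹ * a) * rE j * b) = a * rE j * b
    group
  have h1 : (dC j).ncard ≤ Nat.card (Set.range f) := by
    rw [Nat.card_coe_set_eq]
    exact Set.ncard_le_ncard hsub (Set.toFinite _)
  refine h1.trans ((Finite.card_range_le f).trans ?_)
  rw [Nat.card_prod]
  exact Nat.mul_le_mul_right _ hcard

theorem dG0_ge : 2048 * 244823040 ≤ Nat.card (dG gens0) := by
  rw [← card_nG]
  refine Subgroup.card_le_of_le ?_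
  have hg := gens0_ok
  have hmem : ∀ k ∈ ([0, 2, 6, 7, 8, 9, 10, 11, 12, 13, 14, 15, 16] : List ℕ), let2 k ∈ dG gens0 := by
    intro k hk
    have h : ([0, 2, 6, 7, 8, 9, 10, 11, 12, 13, 14, 15, 16] : List ℕ).all
        (fun k => (gens0.map gW).contains [k]) = true := by decide +kernel
    have h' := List.all_eq_true.1 h k hk
    rw [List.contains_iff_mem, List.mem_map] at h'
    obtain ⟨g, hg, e⟩ := h'
    rw [← el_single, ← e]
    exact gen_mem_dG hg
  refine sup_le ?_ ?_
  · have : ∀ n ≤ 11, ∀ a, el (eWN n a) ∈ dG gens0 := by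
      intro n
      induction n with
      | zero => exact fun _ a => one_mem _
      | succ n ih =>
        intro hn a
        rw [eWN_succ, el_append]
        refine mul_mem (ih (by omega) a) ?_
        cases a.testBit n
        · exact one_mem _
        · rw [cond_true, el_single]
          exact hmem _ (by have : n < 11 := hn; interval_cases n <;> decide)
    rintro _ ⟨a, -, rfl⟩
    exact this 11 le_rfl a
  · rw [rK_range, Subgroup.closure_le]
    rintro _ (rfl | rfl)
    · exact hmem 0 (by decide)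
    · exact hmem 2 (by decide)

theorem dC_card_le : ∀ j : Fin 7, (dC j.val).ncard ≤ lenOf j * Nat.card nG := by
  intro j
  fin_cases j
  · exact dC_le gens0_ok dG0_ge (by decide +kernel) (by decide +kernel)
  · exact dC_le gens1_ok (dG_card_ge gens1_ok bound1_ok) (by decide +kernel) (by decide +kernel)
  · exact dC_le gens2_ok (dG_card_ge gens2_ok bound2_ok) (by decide +kernel) (by decide +kernel)
  · exact dC_le gens3_ok (dG_card_ge gens3_ok bound3_ok) (by decide +kernel) (by decide +kernel)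
  · exact dC_le gens4_ok (dG_card_ge gens4_ok bound4_ok) (by decide +kernel) (by decide +kernel)
  · exact dC_le gens5_ok (dG_card_ge gens5_ok bound5_ok) (by decide +kernel) (by decide +kernel)
  · exact dC_le gens6_ok (dG_card_ge gens6_ok bound6_ok) (by decide +kernel) (by decide +kernel)

theorem el_rep (w : List ℕ) : ∀ n, el (List.replicate n w).flatten = el w ^ n
  | 0 => rfl
  | n + 1 => by rw [List.replicate_succ, List.flatten_cons, el_append, el_rep w n, pow_succ']

theorem prime_check : primeWords.all (fun pw => okW pw.2 &&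
    eqW (List.replicate pw.1 pw.2).flatten [] && neW pw.2 [] 1) = true := by decide +kernel

theorem prime_dvd {p : ℕ} (hp : Nat.Prime p) {w : List ℕ} (h : (p, w) ∈ primeWords) : p ∣ Nat.card hG := by
  have h' := List.all_eq_true.1 prime_check _ h
  rw [Bool.and_eq_true, Bool.and_eq_true] at h'
  obtain ⟨⟨h1, h2⟩, h3⟩ := h'
  have e := el_eq h2
  rw [el_rep, el_nil] at e
  haveI : Fact p.Prime := ⟨hp⟩
  have ho : orderOf (el w) = p := orderOf_eq_prime e (by simpa [el_nil] using el_ne h3)
  have hm : el w ∈ hG := el_mem_hG (okW_iff.1 h1)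
  rw [← ho, ← Subgroup.orderOf_mk (el w) hm]
  exact orderOf_dvd_natCard _

theorem syl_check : (eqW (List.replicate 11 sylA).flatten [] && eqW (List.replicate 11 sylB).flatten [] &&
    eqW (List.replicate 11 sylC).flatten [] && eqW (sylB ++ sylA) (sylA ++ sylB ++ sylC) &&
    eqW (sylA ++ sylC) (sylC ++ sylA) && eqW (sylB ++ sylC) (sylC ++ sylB) &&
    neW (sylA ++ sylB) (sylB ++ sylA) 1 && okW sylA && okW sylB && okW sylC) = true := by decide +kernel

theorem eleven_dvd : 1331 ∣ Nat.card hG := by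
  have h := syl_check
  simp only [Bool.and_eq_true] at h
  obtain ⟨⟨⟨⟨⟨⟨⟨⟨⟨ha, hb⟩, hc⟩, hba⟩, hac⟩, hbc⟩, hne⟩, oa⟩, ob⟩, oc⟩ := h
  refine dvd_card_of_heisenberg (a := el sylA) (b := el sylB) (c := el sylC) (el_mem_hG (okW_iff.1 oa))
    (el_mem_hG (okW_iff.1 ob)) (el_mem_hG (okW_iff.1 oc)) ?_ ?_ ?_ ?_ ?_ ?_ ?_
  · rw [← el_rep, el_eq ha, el_nil]
  · rw [← el_rep, el_eq hb, el_nil]
  · rw [← el_rep, el_eq hc, el_nil]
  · rw [← el_append, el_eq hba, el_append, el_append]
  · show _ = _
    rw [← el_append, el_eq hac, el_append]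
  · show _ = _
    rw [← el_append, el_eq hbc, el_append]
  · rw [← el_append, ← el_append]
    exact el_ne hne

theorem lens_sum : (∑ j : Fin 7, lenOf j) * (2048 * 244823040) = 86775571046077562880 := by decide +kernel

theorem union_le (J : Finset (Fin 7)) : (⋃ j ∈ J, dC j.val).ncard ≤ (∑ j ∈ J, lenOf j) * Nat.card nG := by
  rw [Finset.sum_mul]
  exact (Finset.set_ncard_biUnion_le J _).trans (Finset.sum_le_sum fun j _ => dC_card_le j)

theorem hG_eq_union : (hG : Set (Equiv.Perm V)) = ⋃ j ∈ (Finset.univ : Finset (Fin 7)), dC j.val := by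
  ext x
  simp only [SetLike.mem_coe, mem_hG_iff, inS, Set.mem_iUnion, Finset.mem_univ, exists_prop, true_and]
  constructor
  · rintro ⟨j, hj, h⟩
    exact ⟨⟨j, hj⟩, h⟩
  · rintro ⟨j, h⟩
    exact ⟨j.val, j.isLt, h⟩

theorem card_hG : Nat.card hG = 86775571046077562880 := by
  apply le_antisymm
  · have h := union_le Finset.univ
    rw [← hG_eq_union, card_nG, lens_sum, ← Nat.card_coe_set_eq] at h
    exact h
  · refine Nat.le_of_dvd Nat.card_pos ?_
    have h0 : 2048 * 244823040 ∣ Nat.card hG := card_nG ▸ Subgroup.card_dvd_of_le nG_le_hG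
    have hp : ∀ p ∈ ([29, 31, 37, 43] : List ℕ), p ∣ Nat.card hG := by
      intro p hp
      obtain ⟨⟨q, w⟩, hw, rfl⟩ := List.mem_map.1
        ((show primeWords.map Prod.fst = [29, 31, 37, 43] by decide +kernel).symm ▸ hp :
          p ∈ primeWords.map Prod.fst)
      exact prime_dvd (by simp only [List.mem_cons, List.not_mem_nil, or_false] at hp
                          rcases hp with rfl | rfl | rfl | rfl <;> norm_num) hw
    have e : Nat.lcm (2048 * 244823040) (Nat.lcm 1331 (Nat.lcm 29 (Nat.lcm 31 (Nat.lcm 37 43)))) =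
        86775571046077562880 := by decide +kernel
    rw [← e]
    exact Nat.lcm_dvd h0 (Nat.lcm_dvd eleven_dvd (Nat.lcm_dvd (hp 29 (by simp)) (Nat.lcm_dvd (hp 31 (by simp))
      (Nat.lcm_dvd (hp 37 (by simp)) (hp 43 (by simp))))))

/-- The double cosets are disjoint and as large as they can be. -/
theorem union_card (J : Finset (Fin 7)) : (⋃ j ∈ J, dC j.val).ncard = (∑ j ∈ J, lenOf j) * Nat.card nG := by
  refine le_antisymm (union_le J) ?_
  have hc := union_le Jᶜ
  have hsplit : (hG : Set (Equiv.Perm V)).ncard ≤ (⋃ j ∈ J, dC j.val).ncard + (⋃ j ∈ Jᶜ, dC j.val).ncard := by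
    refine le_trans (Set.ncard_le_ncard ?_ (Set.toFinite _)) (Set.ncard_union_le _ _)
    rw [hG_eq_union]
    intro x hx
    simp only [Set.mem_iUnion, exists_prop, Set.mem_union, Finset.mem_compl] at hx ⊢
    obtain ⟨j, -, hj⟩ := hx
    by_cases h : j ∈ J
    · exact Or.inl ⟨j, h, hj⟩
    · exact Or.inr ⟨j, h, hj⟩
  rw [← Nat.card_coe_set_eq] at hsplit
  change Nat.card hG ≤ _ at hsplit
  rw [card_hG, ← lens_sum, ← card_nG, ← Finset.sum_add_sum_compl J lenOf, add_mul] at hsplit
  exact Nat.le_of_add_le_add_right (hsplit.trans (Nat.add_le_add_left hc _))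

end CfsgLib.Sporadic.J4Order
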