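import Cfsg.Agent.Lib.Sporadic.J4Order.Simple
import Cfsg.Prelude.Def_Sporadic

/-!
# The group of order 86775571046077562880 as a group of 112 × 112 matrices over two elements (owner: helper21)
-/

set_option autoImplicit false
set_option maxRecDepth 40000

namespace CfsgLib.Sporadic.J4Order

open CfsgLib.Sporadic.J4Rep (V app app_xor)

/-- The sum of two vectors. -/
def vadd (u v : V) : V := ⟨u.1 ^^^ v.1, Nat.xor_lt_two_pow u.2 v.2⟩

/-- The coordinates of a vector. -/
def toVec (v : V) : Fin 112 → ZMod 2 := fun i => if v.1.testBit i.val then 1 else 0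

/-- The vector with given coordinates. -/
def ofVec (f : Fin 112 → ZMod 2) : V := ⟨Nat.ofBits fun i => decide (f i = 1), Nat.ofBits_lt_two_pow _⟩

theorem toVec_ofVec (f : Fin 112 → ZMod 2) : toVec (ofVec f) = f := by
  funext i
  have h : ∀ x : ZMod 2, (if decide (x = 1) = true then (1 : ZMod 2) else 0) = x := by decide
  simp only [toVec, ofVec, Nat.testBit_ofBits_lt _ _ i.isLt]
  exact h (f i)

theorem toVec_injective : Function.Injective toVec := by
  intro u v h
  refine Subtype.ext (Nat.eq_of_testBit_eq fun i => ?_)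
  by_cases hi : i < 112
  · have h' : (if u.1.testBit i then (1 : ZMod 2) else 0) = if v.1.testBit i then 1 else 0 := congrFun h ⟨i, hi⟩
    cases hu : u.1.testBit i <;> cases hv : v.1.testBit i <;> simp [hu, hv] at h' ⊢
  · have hp : 2 ^ 112 ≤ 2 ^ i := Nat.pow_le_pow_right (by norm_num) (Nat.le_of_not_lt hi)
    rw [Nat.testBit_eq_false_of_lt (lt_of_lt_of_le u.2 hp), Nat.testBit_eq_false_of_lt (lt_of_lt_of_le v.2 hp)]

theorem ofVec_toVec (v : V) : ofVec (toVec v) = v := toVec_injective (toVec_ofVec _)

theorem toVec_vadd (u v : V) : toVec (vadd u v) = toVec u + toVec v := by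
  funext i
  simp only [toVec, vadd, Pi.add_apply, Nat.testBit_xor]
  cases u.1.testBit i.val <;> cases v.1.testBit i.val <;> decide

theorem ofVec_add (f g : Fin 112 → ZMod 2) : ofVec (f + g) = vadd (ofVec f) (ofVec g) :=
  toVec_injective (by rw [toVec_vadd, toVec_ofVec, toVec_ofVec, toVec_ofVec])

theorem let2_vadd {k : ℕ} (hk : k < 17) (u v : V) : let2 k (vadd u v) = vadd (let2 k u) (let2 k v) := by
  apply Subtype.ext
  show (let2 k (vadd u v)).1 = (let2 k u).1 ^^^ (let2 k v).1
  rw [let2_apply hk, let2_apply hk, let2_apply hk]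
  exact app_xor _ _ _

theorem linear_of_mem {h : Equiv.Perm V} (hh : h ∈ hG) : ∀ u v, h (vadd u v) = vadd (h u) (h v) := by
  induction hh using Subgroup.closure_induction with
  | mem y hy =>
    rcases hy with rfl | rfl | rfl
    · exact let2_vadd (by norm_num)
    · exact let2_vadd (by norm_num)
    · exact let2_vadd (k := 4) (by norm_num)
  | one => exact fun u v => rfl
  | mul a b _ _ iha ihb =>
    intro u v
    rw [Equiv.Perm.mul_apply, ihb, iha]
    rfl
  | inv a _ iha =>
    intro u v
    apply a.injective
    rw [iha]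
    simp

/-- An element as a linear map. -/
noncomputable def linOf (h : hG) : (Fin 112 → ZMod 2) →ₗ[ZMod 2] (Fin 112 → ZMod 2) :=
  (AddMonoidHom.mk' (fun f => toVec ((h : Equiv.Perm V) (ofVec f)))
    (fun f g => by rw [ofVec_add, linear_of_mem h.2, toVec_vadd])).toZModLinearMap 2

theorem linOf_apply (h : hG) (f : Fin 112 → ZMod 2) : linOf h f = toVec ((h : Equiv.Perm V) (ofVec f)) := rfl

/-- An element as a matrix. -/
noncomputable def matOf : hG →* Matrix (Fin 112) (Fin 112) (ZMod 2) where
  toFun h := LinearMap.toMatrix' (linOf h)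
  map_one' := by
    have e : linOf 1 = LinearMap.id := LinearMap.ext fun f => by
      rw [linOf_apply, OneMemClass.coe_one, Equiv.Perm.one_apply, toVec_ofVec]
      rfl
    rw [e, LinearMap.toMatrix'_id]
  map_mul' a b := by
    have e : linOf (a * b) = (linOf a).comp (linOf b) := LinearMap.ext fun f => by
      rw [LinearMap.comp_apply, linOf_apply, linOf_apply, linOf_apply, ofVec_toVec, Subgroup.coe_mul,
        Equiv.Perm.mul_apply]
    rw [e, LinearMap.toMatrix'_comp]

/-- An element as an invertible matrix. -/
noncomputable def glOf : hG →* GL (Fin 112) (ZMod 2) := matOf.toHomUnits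

theorem glOf_injective : Function.Injective glOf := by
  intro a b h
  have h1 : linOf a = linOf b := by
    apply LinearMap.toMatrix'.injective
    exact congrArg Units.val h
  refine Subtype.ext (Equiv.ext fun v => ?_)
  have := LinearMap.congr_fun h1 (toVec v)
  rw [linOf_apply, linOf_apply, ofVec_toVec] at this
  exact toVec_injective this

theorem isJ4_range {G K : Type*} [Group G] [Group K] (f : G →* K) (hf : Function.Injective f) (hs : IsSimpleGroup G)
    (hc : Nat.card G = 86775571046077562880) : Cfsg.IsJ4 f.range := by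
  refine ⟨?_, ?_⟩
  · haveI := hs
    haveI : Nontrivial f.range := (MonoidHom.ofInjective hf).symm.toEquiv.nontrivial
    exact (MonoidHom.ofInjective hf).symm.isSimpleGroup
  · exact (Nat.card_congr (MonoidHom.ofInjective hf).toEquiv).symm.trans hc

/-- GL(112, 2) has a simple subgroup of the order of J4. -/
theorem exists_isJ4 : ∃ H : Subgroup (GL (Fin 112) (ZMod 2)), Cfsg.IsJ4 H :=
  ⟨glOf.range, isJ4_range glOf glOf_injective hG_simple card_hG⟩

end CfsgLib.Sporadic.J4Order
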