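import Cfsg.Agent.Lib.Sporadic.J4Order.EGroup
import Cfsg.Agent.Lib.Sporadic.J4Rep.Embed

/-!
# The subgroup of type 2^11:M24 (owner: helper21)
-/

set_option autoImplicit false
set_option maxRecDepth 40000

namespace CfsgLib.Sporadic.J4Order

open Cfsg
open CfsgLib.Sporadic (bitmap testBit_bitmap M24_card M24_isSimple)
open CfsgLib.Sporadic.J4Rep (V app runW)
open scoped Pointwise

/-- The check that two words differ at a vector. -/
noncomputable def neW (w w' : List ℕ) (v : ℕ) : Bool :=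
  okW w && okW w' && Nat.blt v (2 ^ 112) && !Nat.beq (runW tbl2 w v) (runW tbl2 w' v)

theorem el_ne {w w' : List ℕ} {v : ℕ} (h : neW w w' v = true) : el w ≠ el w' := by
  simp only [neW, Bool.and_eq_true, Bool.not_eq_true', Nat.blt_eq] at h
  obtain ⟨⟨⟨h1, h2⟩, h3⟩, h4⟩ := h
  intro e
  have e' : runW tbl2 w v = runW tbl2 w' v := by
    rw [← el_apply (okW_iff.1 h1) ⟨v, h3⟩, ← el_apply (okW_iff.1 h2) ⟨v, h3⟩, e]
  rw [e'] at h4
  simp at h4

/-! ### M24 -/

/-- The copy of M24. -/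
noncomputable def rK : J4Pres.K0 →* Equiv.Perm V := J4Rep.rho.comp J4Rep.toJ4

theorem rho_jL {k : ℕ} (hk : k < 6) : J4Rep.rho (J4Rep.jL k) = J4Rep.letter k := by
  have hof : ∀ g, J4Rep.rho (PresentedGroup.of g) = J4Rep.letter (J4Rep.code (g, true)) := fun g =>
    PresentedGroup.toGroup.of J4Rep.rels_one
  interval_cases k
  · exact hof _
  · show J4Rep.rho (PresentedGroup.of _)⁻¹ = _
    rw [map_inv, hof, J4Rep.letter_inv (by decide)]
    rfl
  · exact hof _
  · show J4Rep.rho (PresentedGroup.of _)⁻¹ = _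
    rw [map_inv, hof, J4Rep.letter_inv (by decide)]
    rfl
  · exact hof _
  · show J4Rep.rho (PresentedGroup.of _)⁻¹ = _
    rw [map_inv, hof, J4Rep.letter_inv (by decide)]
    rfl

theorem rK_L {k : ℕ} (hk : k < 4) : rK (J4Pres.L k) = let2 k := by
  rw [let2_eq_letter (by omega), ← rho_jL (by omega)]
  show J4Rep.rho (FreeGroup.lift J4Rep.jgen (J4Pres.fr k)) = _
  rw [J4Rep.lift_fr hk]

theorem el_eq_rK : ∀ {w : List ℕ}, (∀ k ∈ w, k < 4) → el w = rK (J4Pres.val w)
  | [], _ => by simp [el_nil, J4Pres.val]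
  | k :: w, h => by
    rw [el_cons, el_eq_rK fun j hj => h j (List.mem_cons_of_mem _ hj), ← rK_L (h k List.mem_cons_self),
      ← map_mul]
    simp [J4Pres.val]

theorem K0_simple : IsSimpleGroup J4Pres.K0 ∧ Nat.card J4Pres.K0 = 244823040 := by
  let e : J4Pres.K0 ≃* ↥M24 :=
    MulEquiv.ofBijective J4Pres.toM24 ⟨J4Pres.toM24_injective, J4Pres.toM24_surjective⟩
  haveI : IsSimpleGroup ↥M24 := M24_isSimple
  haveI : Nontrivial J4Pres.K0 := e.toEquiv.nontrivial
  exact ⟨e.isSimpleGroup, by rw [Nat.card_congr e.toEquiv, M24_card]⟩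

theorem rK_range : rK.range = Subgroup.closure {let2 0, let2 2} := by
  rw [MonoidHom.range_eq_map, ← PresentedGroup.closure_range_of J4Pres.rels, MonoidHom.map_closure,
    ← Set.range_comp]
  have h : ∀ i : Fin 2, rK (PresentedGroup.of i) = let2 (2 * i.val) := fun i => by
    rw [← rK_L (by omega)]
    fin_cases i <;> simp [J4Pres.L, J4Pres.fr, PresentedGroup.of]
  congr 1
  ext z
  simp only [Set.mem_range, Function.comp_apply, Set.mem_insert_iff, Set.mem_singleton_iff, h]
  constructor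
  · rintro ⟨i, rfl⟩
    fin_cases i
    · exact Or.inl rfl
    · exact Or.inr rfl
  · rintro (rfl | rfl)
    · exact ⟨0, rfl⟩
    · exact ⟨1, rfl⟩

theorem rK_le_normalizer : rK.range ≤ Subgroup.normalizer (eG : Set (Equiv.Perm V)) := by
  rw [rK_range, Subgroup.closure_le]
  rintro _ (rfl | rfl)
  · exact xyGen_mem_normalizer (g := 0) (by norm_num)
  · exact xyGen_mem_normalizer (g := 1) (by norm_num)

/-! ### irreducibility -/

/-- Edges from their code, 32 bits each. -/
noncomputable def edgeList (n : ℕ) : ℕ → List ℕ :=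
  Nat.rec (motive := fun _ => ℕ → List ℕ) (fun _ => [])
    (fun _ ih P => Nat.land P 4294967295 :: ih (Nat.shiftRight P 32)) n

/-- Following the edges of a tree on the translations. -/
noncomputable def runE (es : List ℕ) : ℕ → ℕ :=
  List.rec (motive := fun _ => ℕ → ℕ) (fun M => M)
    (fun e _ ih M => cond
      (M.testBit ((e >>> 12) &&& 4095) && Nat.blt (e >>> 24) 2 &&
        Nat.beq (app (cjs.getD (e >>> 24) []) ((e >>> 12) &&& 4095)) (e &&& 4095))
      (strict (M ||| 1 <<< (e &&& 4095)) ih) 0) es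

theorem runE_sound (U : Subgroup (Equiv.Perm V))
    (hU : ∀ g < 2, xyGen g ∈ Subgroup.normalizer (U : Set (Equiv.Perm V))) (r : ℕ) :
    ∀ (es : List ℕ) {M : ℕ}, (∀ p, M.testBit p = true → p < 2048 ∧ (eA p ∈ U ↔ eA r ∈ U)) →
      ∀ p, (runE es M).testBit p = true → p < 2048 ∧ (eA p ∈ U ↔ eA r ∈ U)
  | [], _, hM => hM
  | e :: es, M, hM => by
    intro q hq
    change (cond (M.testBit ((e >>> 12) &&& 4095) && Nat.blt (e >>> 24) 2 &&
        Nat.beq (app (cjs.getD (e >>> 24) []) ((e >>> 12) &&& 4095)) (e &&& 4095))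
      (strict (M ||| 1 <<< (e &&& 4095)) (runE es)) 0).testBit q = true at hq
    cases hc : (M.testBit ((e >>> 12) &&& 4095) && Nat.blt (e >>> 24) 2 &&
        Nat.beq (app (cjs.getD (e >>> 24) []) ((e >>> 12) &&& 4095)) (e &&& 4095)) with
    | false => rw [hc, cond_false] at hq; simp at hq
    | true =>
      rw [hc, cond_true, strict_eq] at hq
      simp only [Bool.and_eq_true, Nat.blt_eq] at hc
      obtain ⟨⟨h1, h2⟩, h3⟩ := hc
      obtain ⟨hp, hpiff⟩ := hM _ h1
      have e3 := Nat.eq_of_beq_eq_true h3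
      refine runE_sound U hU r es (fun p hp' => ?_) q hq
      rw [Nat.testBit_or, Bool.or_eq_true, Nat.one_shiftLeft, Nat.testBit_two_pow, decide_eq_true_eq] at hp'
      rcases hp' with hp' | rfl
      · exact hM p hp'
      · rw [← e3]
        refine ⟨cj_lt _ _ h2, ?_⟩
        rw [← eA_conj h2 hp]
        exact ((Subgroup.mem_normalizer_iff.1 (hU _ h2) _).symm).trans hpiff

/-- The members of an orbit. -/
noncomputable def eOrbit (bs : List (ℕ × ℕ)) (r : ℕ) : ℕ :=
  runE (bs.flatMap fun b => edgeList b.1 b.2) (1 <<< r)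

/-- The two orbits cover everything, and each spans. -/
noncomputable def irrOK : Bool :=
  strict (eOrbit eEdges0 eRoot0) fun A => strict (eOrbit eEdges1 eRoot1) fun B =>
    Nat.blt eRoot0 2048 && Nat.blt eRoot1 2048 && Nat.beq (A ||| B) ((1 <<< 2048) - 2) &&
    Nat.beq eSpan0.length 11 && Nat.beq eSpan1.length 11 &&
    (List.range 11).all fun i =>
      ((eSpan0.getD i []).all fun m => A.testBit m) &&
      Nat.beq ((eSpan0.getD i []).foldr (· ^^^ ·) 0) (1 <<< i) &&
      ((eSpan1.getD i []).all fun m => B.testBit m) &&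
      Nat.beq ((eSpan1.getD i []).foldr (· ^^^ ·) 0) (1 <<< i)

theorem irr_check : irrOK = true := by decide +kernel

theorem eA_foldr (U : Subgroup (Equiv.Perm V)) : ∀ l : List ℕ, (∀ m ∈ l, eA m ∈ U) →
    eA (l.foldr (· ^^^ ·) 0) ∈ U
  | [], _ => by simp [eA_zero]
  | m :: l, h => by
    rw [List.foldr_cons, eA_xor]
    exact mul_mem (h m List.mem_cons_self) (eA_foldr U l fun x hx => h x (List.mem_cons_of_mem _ hx))

theorem eG_le_of_normalized {U : Subgroup (Equiv.Perm V)}
    (hU : ∀ g < 2, xyGen g ∈ Subgroup.normalizer (U : Set (Equiv.Perm V)))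
    {a : ℕ} (ha : a < 2048) (ha0 : a ≠ 0) (h : eA a ∈ U) : eG ≤ U := by
  have hc := irr_check
  simp only [irrOK, strict_eq, Bool.and_eq_true, Nat.blt_eq, List.all_eq_true, List.mem_range] at hc
  obtain ⟨⟨⟨⟨⟨hr0, hr1⟩, hcov⟩, -⟩, -⟩, hspan⟩ := hc
  have orb : ∀ bs r, r < 2048 → ∀ p, (eOrbit bs r).testBit p = true → (eA p ∈ U ↔ eA r ∈ U) :=
    fun bs r hr p hp => (runE_sound U hU r _ (fun q hq => by
      rw [Nat.one_shiftLeft, Nat.testBit_two_pow, decide_eq_true_eq] at hq
      subst hq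
      exact ⟨hr, Iff.rfl⟩) p hp).2
  have hunit : ∀ i < 11, eA (2 ^ i) ∈ U := by
    intro i hi
    have hbit : (eOrbit eEdges0 eRoot0 ||| eOrbit eEdges1 eRoot1).testBit a = true := by
      rw [Nat.eq_of_beq_eq_true hcov, show (1 <<< 2048) - 2 = 2 ^ 2048 - (1 + 1) by rw [Nat.one_shiftLeft],
        Nat.testBit_two_pow_sub_succ (Nat.one_lt_two_pow (by norm_num))]
      have h1 : (1 : ℕ).testBit a = false :=
        Nat.testBit_eq_false_of_lt (Nat.one_lt_two_pow ha0)
      simp [h1, ha]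
    rw [Nat.testBit_or, Bool.or_eq_true] at hbit
    obtain ⟨⟨⟨s0, e0⟩, s1⟩, e1⟩ := hspan i hi
    rcases hbit with hb | hb
    · have hr := (orb _ _ hr0 a hb).1 h
      have e := Nat.eq_of_beq_eq_true e0
      rw [Nat.one_shiftLeft] at e
      rw [← e]
      exact eA_foldr U _ fun m hm => (orb _ _ hr0 m (s0 m hm)).2 hr
    · have hr := (orb _ _ hr1 a hb).1 h
      have e := Nat.eq_of_beq_eq_true e1
      rw [Nat.one_shiftLeft] at e
      rw [← e]
      exact eA_foldr U _ fun m hm => (orb _ _ hr1 m (s1 m hm)).2 hr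
  have all : ∀ n ≤ 11, ∀ b, el (eWN n b) ∈ U := by
    intro n
    induction n with
    | zero => exact fun _ b => one_mem U
    | succ n ih =>
      intro hn b
      rw [eWN_succ, el_append]
      refine mul_mem (ih (by omega) b) ?_
      cases b.testBit n
      · exact one_mem U
      · rw [cond_true, el_single, ← eA_unit (by omega)]
        exact hunit n (by omega)
  rintro _ ⟨b, -, rfl⟩
  exact all 11 le_rfl b

theorem eA_injOn {a : ℕ} (ha : a < 2048) (h : eA a = 1) : a = 0 := by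
  by_contra ha0
  have hle := eG_le_of_normalized (U := ⊥) (fun g _ => by rw [Subgroup.mem_normalizer_iff]; simp) ha ha0 (by simp [h])
  have h1 : let2 (6 + 0) = 1 := by simpa using hle (let2_mem_eG (i := 0) (by norm_num))
  have hne : neW [6] [] 1 = true := by decide +kernel
  exact el_ne hne (by rw [el_single, el_nil]; exact h1)

theorem card_eG : Nat.card eG = 2048 := by
  let f : Fin 2048 → eG := fun a => ⟨eA a.1, eA_mem a.2⟩
  have hf : Function.Bijective f := by
    refine ⟨fun a b h => ?_, fun x => ?_⟩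
    · have h' : eA a.1 = eA b.1 := congrArg Subtype.val h
      have := eA_injOn (Nat.xor_lt_two_pow (n := 11) a.2 b.2) (by rw [eA_xor, h', eA_sq])
      exact Fin.ext (Nat.xor_eq_zero_iff.1 this)
    · obtain ⟨a, ha, e⟩ := x.2
      exact ⟨⟨a, ha⟩, Subtype.ext e.symm⟩
  rw [← Nat.card_eq_of_bijective f hf, Nat.card_fin]

theorem rK_mem_eG {g : J4Pres.K0} (h : rK g ∈ eG) : g = 1 := by
  haveI := K0_simple.1
  have hn : (eG.comap rK).Normal := ⟨fun x hx y => by
    rw [Subgroup.mem_comap, map_mul, map_mul, map_inv]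
    exact (Subgroup.mem_normalizer_iff.1 (rK_le_normalizer ⟨y, rfl⟩) _).1 hx⟩
  rcases hn.eq_bot_or_eq_top with hb | ht
  · exact Subgroup.eq_bot_iff_forall _ |>.1 hb g h
  · exfalso
    obtain ⟨a, -, e⟩ : let2 0 ∈ eG := by
      rw [← rK_L (by norm_num)]
      exact (ht ▸ Subgroup.mem_top _ : J4Pres.L 0 ∈ eG.comap rK)
    have hne : neW [0, 6] [6, 0] 1 = true := by decide +kernel
    refine el_ne hne ?_
    have hc := commute_eWN (i := 0) (by norm_num) a 11 le_rfl
    have hc' : Commute (let2 6) (let2 0) := e ▸ hc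
    simpa [el] using hc'.symm.eq

/-! ### the subgroup -/

/-- The subgroup of type 2^11:M24. -/
noncomputable def nG : Subgroup (Equiv.Perm V) := eG ⊔ rK.range

theorem eG_le_nG : eG ≤ nG := le_sup_left

theorem rK_mem_nG (g : J4Pres.K0) : rK g ∈ nG :=
  (le_sup_right : rK.range ≤ eG ⊔ rK.range) ⟨g, rfl⟩

theorem mem_nG {x : Equiv.Perm V} : x ∈ nG ↔ ∃ e ∈ eG, ∃ g, x = e * rK g := by
  constructor
  · intro h
    have h' : x ∈ ((eG : Set (Equiv.Perm V)) * (rK.range : Set (Equiv.Perm V))) := by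
      rw [← Subgroup.coe_mul_of_right_le_normalizer_left eG rK.range rK_le_normalizer]
      exact h
    obtain ⟨e, he, _, ⟨g, rfl⟩, rfl⟩ := h'
    exact ⟨e, he, g, rfl⟩
  · rintro ⟨e, he, g, rfl⟩
    exact mul_mem (eG_le_nG he) (rK_mem_nG g)

theorem split_unique {e e' : Equiv.Perm V} (he : e ∈ eG) (he' : e' ∈ eG) {g g' : J4Pres.K0}
    (h : e * rK g = e' * rK g') : e = e' ∧ g = g' := by
  have h1 : rK (g * g'⁻¹) ∈ eG := by
    have e1 : rK (g * g'⁻¹) = e⁻¹ * e' := by
      rw [map_mul, map_inv, mul_inv_eq_iff_eq_mul, mul_assoc, ← h, inv_mul_cancel_left]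
    rw [e1]
    exact mul_mem (inv_mem he) he'
  have h2 : g = g' := mul_inv_eq_one.1 (rK_mem_eG h1)
  subst h2
  exact ⟨mul_right_cancel h, rfl⟩

theorem card_nG : Nat.card nG = 2048 * 244823040 := by
  let f : eG × J4Pres.K0 → nG := fun p => ⟨p.1 * rK p.2, mem_nG.2 ⟨_, p.1.2, _, rfl⟩⟩
  have hf : Function.Bijective f := by
    refine ⟨fun p q h => ?_, fun x => ?_⟩
    · obtain ⟨h1, h2⟩ := split_unique p.1.2 q.1.2 (congrArg Subtype.val h)
      exact Prod.ext (Subtype.ext h1) h2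
    · obtain ⟨e, he, g, h⟩ := mem_nG.1 x.2
      exact ⟨(⟨e, he⟩, g), Subtype.ext h.symm⟩
  rw [← Nat.card_eq_of_bijective f hf, Nat.card_prod, card_eG, K0_simple.2]

theorem nG_le_normalizer : nG ≤ Subgroup.normalizer (eG : Set (Equiv.Perm V)) :=
  sup_le Subgroup.le_normalizer rK_le_normalizer

/-- The letters of the subgroup. -/
noncomputable def nW (w : List ℕ) : Bool :=
  w.all fun k => Nat.blt k 4 || (Nat.ble 6 k && Nat.blt k 17)

theorem nW_iff {w : List ℕ} : nW w = true ↔ ∀ k ∈ w, k < 4 ∨ (6 ≤ k ∧ k < 17) := by simp [nW]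

theorem let2_mem_nG {k : ℕ} (h : k < 4 ∨ (6 ≤ k ∧ k < 17)) : let2 k ∈ nG := by
  rcases h with h | ⟨h1, h2⟩
  · rw [← rK_L h]
    exact rK_mem_nG _
  · obtain ⟨i, rfl⟩ := Nat.exists_eq_add_of_le h1
    exact eG_le_nG (let2_mem_eG (by omega))

theorem el_mem_nG : ∀ {w : List ℕ}, (∀ k ∈ w, k < 4 ∨ (6 ≤ k ∧ k < 17)) → el w ∈ nG
  | [], _ => one_mem _
  | k :: w, h => by
    rw [el_cons]
    exact mul_mem (let2_mem_nG (h k List.mem_cons_self)) (el_mem_nG fun j hj => h j (List.mem_cons_of_mem _ hj))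

theorem nG_perfect : ⁅nG, nG⁆ = nG := by
  refine le_antisymm (Subgroup.commutator_le.2 fun a ha b hb =>
    mul_mem (mul_mem (mul_mem ha hb) (inv_mem ha)) (inv_mem hb)) ?_
  have hr : rK.range ≤ ⁅nG, nG⁆ := by
    have h := Subgroup.map_commutator (⊤ : Subgroup J4Pres.K0) ⊤ rK
    rw [← commutator_def, J4Pres.K0_commutator, ← MonoidHom.range_eq_map] at h
    rw [h]
    exact Subgroup.commutator_mono le_sup_right le_sup_right
  refine sup_le (eG_le_of_normalized (a := app conjX 1 ^^^ 1) ?_ ?_ ?_ ?_) hr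
  · intro g _
    have hg : xyGen g ∈ nG := by
      unfold xyGen
      split <;> exact let2_mem_nG (by norm_num)
    rw [Subgroup.mem_normalizer_iff_map_conj_eq, Subgroup.map_commutator]
    have : nG.map (MulAut.conj (xyGen g) : Equiv.Perm V →* Equiv.Perm V) = nG :=
      Subgroup.mem_normalizer_iff_map_conj_eq.1 (Subgroup.le_normalizer hg)
    rw [this]
  · exact Nat.xor_lt_two_pow (n := 11) (cj_lt 0 1 (by norm_num)) (by norm_num)
  · decide +kernel
  · have e := eA_conj (g := 0) (by norm_num) (a := 1) (by norm_num)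
    rw [eA_xor, show app conjX 1 = app (cjs.getD 0 []) 1 from rfl, ← e]
    have h1 : xyGen 0 ∈ nG := let2_mem_nG (k := 0) (by norm_num)
    have h2 := Subgroup.commutator_mem_commutator h1 (eG_le_nG (eA_mem (a := 1) (by norm_num)))
    rwa [commutatorElement_def, eA_inv] at h2

end CfsgLib.Sporadic.J4Order
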