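import Cfsg.Agent.Lib.Sporadic.J4Rep.Linear

/-!
# Linear maps of bit masks applied to many masks at once (owner: helper21)

Masks are packed in slots of 112 bits.
-/

set_option autoImplicit false
set_option maxRecDepth 8000

namespace CfsgLib.Sporadic.J4Order

open CfsgLib.Sporadic.J4Rep (app runW app_cons app_nil app_lt runW_xor runW_zero)

/-- Packing masks, the first in the lowest slot. -/
noncomputable def packL (l : List ℕ) : ℕ :=
  List.rec (motive := fun _ => ℕ) 0 (fun a _ ih => Nat.add a (Nat.shiftLeft ih 112)) l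

/-- The lowest bit of each of the first `n` slots. -/
noncomputable def ones (n : ℕ) : ℕ := Nat.rec 0 (fun _ ih => Nat.add 1 (Nat.shiftLeft ih 112)) n

theorem packL_cons (a : ℕ) (l : List ℕ) : packL (a :: l) = a + 2 ^ 112 * packL l := by
  show a + (packL l) <<< 112 = _
  rw [Nat.shiftLeft_eq, mul_comm]

theorem ones_succ (n : ℕ) : ones (n + 1) = 1 + 2 ^ 112 * ones n := by
  show 1 + (ones n) <<< 112 = _
  rw [Nat.shiftLeft_eq, mul_comm]

theorem testBit_slot {a b i : ℕ} (ha : a < 2 ^ 112) :
    (a + 2 ^ 112 * b).testBit i = if i < 112 then a.testBit i else b.testBit (i - 112) := by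
  rw [add_comm, Nat.testBit_two_pow_mul_add b ha]

theorem xor_slot {a b c d : ℕ} (ha : a < 2 ^ 112) (hc : c < 2 ^ 112) :
    (a + 2 ^ 112 * b) ^^^ (c + 2 ^ 112 * d) = (a ^^^ c) + 2 ^ 112 * (b ^^^ d) := by
  refine Nat.eq_of_testBit_eq fun i => ?_
  rw [Nat.testBit_xor, testBit_slot ha, testBit_slot hc, testBit_slot (Nat.xor_lt_two_pow ha hc)]
  split <;> simp [Nat.testBit_xor]

theorem land_slot {a b c d : ℕ} (ha : a < 2 ^ 112) (hc : c < 2 ^ 112) :
    (a + 2 ^ 112 * b) &&& (c + 2 ^ 112 * d) = (a &&& c) + 2 ^ 112 * (b &&& d) := by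
  refine Nat.eq_of_testBit_eq fun i => ?_
  rw [Nat.testBit_and, testBit_slot ha, testBit_slot hc,
    testBit_slot (lt_of_le_of_lt Nat.and_le_left ha)]
  split <;> simp [Nat.testBit_and]

theorem slot_inj {B a b x y : ℕ} (ha : a < B) (hb : b < B) (h : a + B * x = b + B * y) : a = b ∧ x = y := by
  have h0 : a = b := by
    have e : (a + B * x) % B = (b + B * y) % B := by rw [h]
    rwa [Nat.add_mul_mod_self_left, Nat.add_mul_mod_self_left, Nat.mod_eq_of_lt ha, Nat.mod_eq_of_lt hb] at e
  subst h0
  exact ⟨rfl, Nat.eq_of_mul_eq_mul_left (by omega) (Nat.add_left_cancel h)⟩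

theorem packL_inj : ∀ (l m : List ℕ), l.length = m.length → (∀ a ∈ l, a < 2 ^ 112) → (∀ a ∈ m, a < 2 ^ 112) →
    packL l = packL m → l = m := by
  intro l
  induction l with
  | nil => intro m h _ _ _; exact (List.length_eq_zero_iff.1 h.symm).symm
  | cons a l ih =>
    intro m hlen hl hm h
    cases m with
    | nil => exact absurd hlen (Nat.succ_ne_zero _)
    | cons b m =>
      rw [packL_cons, packL_cons] at h
      obtain ⟨h0, h1⟩ := slot_inj (hl a List.mem_cons_self) (hm b List.mem_cons_self) h
      rw [h0, ih m (Nat.succ.inj hlen) (fun x hx => hl x (List.mem_cons_of_mem _ hx))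
        (fun x hx => hm x (List.mem_cons_of_mem _ hx)) h1]

/-- One bit of every slot. -/
theorem land_ones (i : ℕ) (hi : i < 112) : ∀ l : List ℕ, (∀ a ∈ l, a < 2 ^ 112) →
    (packL l >>> i) &&& ones l.length = packL (l.map fun a => if a.testBit i then 1 else 0)
  | [], _ => by simp [packL, ones]
  | a :: l, hl => by
    have ha := hl a List.mem_cons_self
    have ih := land_ones i hi l fun x hx => hl x (List.mem_cons_of_mem _ hx)
    rw [List.length_cons, ones_succ, List.map_cons, packL_cons, packL_cons]
    refine Nat.eq_of_testBit_eq fun j => ?_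
    have h1 : (if a.testBit i then 1 else 0 : ℕ) < 2 ^ 112 := by split <;> norm_num
    rw [Nat.testBit_and, Nat.testBit_shiftRight, testBit_slot ha, testBit_slot (by norm_num : (1 : ℕ) < 2 ^ 112),
      testBit_slot h1, ← ih, Nat.testBit_and, Nat.testBit_shiftRight]
    by_cases hj : j < 112
    · rw [if_pos hj, if_pos hj]
      rcases j with _ | j
      · rw [Nat.add_zero, if_pos hi]
        cases a.testBit i <;> simp
      · have : (1 : ℕ).testBit (j + 1) = false :=
          Nat.testBit_eq_false_of_lt (Nat.one_lt_two_pow (Nat.succ_ne_zero j))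
        rw [this, Bool.and_false]
        cases a.testBit i <;> simp [this]
    · rw [if_neg hj, if_neg hj, if_neg (by omega), show i + j - 112 = i + (j - 112) by omega]

theorem packL_mul (c : ℕ) : ∀ l : List ℕ, c * packL l = packL (l.map (c * ·))
  | [] => rfl
  | a :: l => by rw [List.map_cons, packL_cons, packL_cons, ← packL_mul c l]; ring

theorem packL_xor : ∀ (l : List ℕ) (f g : ℕ → ℕ), (∀ a ∈ l, f a < 2 ^ 112) → (∀ a ∈ l, g a < 2 ^ 112) →
    packL (l.map f) ^^^ packL (l.map g) = packL (l.map fun a => f a ^^^ g a)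
  | [], _, _, _, _ => by simp [packL]
  | a :: l, f, g, hf, hg => by
    rw [List.map_cons, List.map_cons, List.map_cons, packL_cons, packL_cons, packL_cons,
      xor_slot (hf a List.mem_cons_self) (hg a List.mem_cons_self),
      packL_xor l f g (fun x hx => hf x (List.mem_cons_of_mem _ hx)) (fun x hx => hg x (List.mem_cons_of_mem _ hx))]

/-- The columns from the one with number `i` on, applied to every slot. -/
noncomputable def appAll (one S : ℕ) (A : List ℕ) : ℕ → ℕ :=
  List.rec (motive := fun _ => ℕ → ℕ) (fun _ => 0)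
    (fun c _ ih i => Nat.xor (Nat.mul c (Nat.land (Nat.shiftRight S i) one)) (ih (Nat.succ i))) A

theorem appAll_eq (l : List ℕ) (hl : ∀ a ∈ l, a < 2 ^ 112) : ∀ (A : List ℕ) (i : ℕ),
    (∀ c ∈ A, c < 2 ^ 112) → i + A.length ≤ 112 →
    appAll (ones l.length) (packL l) A i = packL (l.map fun a => app A (a >>> i))
  | [], i, _, _ => by
    show 0 = packL (l.map fun a => app [] (a >>> i))
    induction l with
    | nil => rfl
    | cons a l ih =>
      rw [List.map_cons, packL_cons, ← ih (fun x hx => hl x (List.mem_cons_of_mem _ hx)), app_nil, Nat.mul_zero]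
  | c :: A, i, hA, hlen => by
    have hc := hA c List.mem_cons_self
    have hA' : ∀ d ∈ A, d < 2 ^ 112 := fun d hd => hA d (List.mem_cons_of_mem _ hd)
    have hlen' : i + 1 + A.length ≤ 112 := by simp only [List.length_cons] at hlen; omega
    show (c * ((packL l >>> i) &&& ones l.length)) ^^^ appAll (ones l.length) (packL l) A (i + 1) = _
    rw [land_ones i (by simp only [List.length_cons] at hlen; omega) l hl, packL_mul, List.map_map,
      appAll_eq l hl A (i + 1) hA' hlen', packL_xor]
    · refine congrArg packL (List.map_congr_left fun a _ => ?_)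
      rw [app_cons, ← Nat.shiftRight_add, Nat.testBit_shiftRight, Nat.add_zero]
      congr 1
      simp only [Function.comp_apply]
      cases a.testBit i <;> simp
    · intro a _
      simp only [Function.comp_apply]
      cases a.testBit i
      · rw [if_neg (by simp), Nat.mul_zero]; exact Nat.two_pow_pos 112
      · rw [if_pos rfl, Nat.mul_one]; exact hc
    · exact fun a _ => app_lt hA' _

/-- Pass the value of a number. -/
noncomputable def strict {α : Type} (v : ℕ) (k : ℕ → α) : α :=
  Nat.rec (motive := fun _ => α) (k 0) (fun q _ => k (Nat.succ q)) v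

theorem strict_eq {α : Type} (v : ℕ) (k : ℕ → α) : strict v k = k v := by cases v <;> rfl

/-- A word applied to every slot, the last letter first. -/
noncomputable def runAll (tbl : ℕ → List ℕ) (one : ℕ) (w : List ℕ) (S : ℕ) : ℕ :=
  List.rec (motive := fun _ => ℕ) S (fun x _ ih => strict ih fun v => appAll one v (tbl x) 0) w

/-- Tables with 112 columns of 112 bits. -/
def TableOK (tbl : ℕ → List ℕ) : Prop := ∀ x, (tbl x).length ≤ 112 ∧ ∀ c ∈ tbl x, c < 2 ^ 112

theorem runW_lt {tbl : ℕ → List ℕ} (h : TableOK tbl) : ∀ (w : List ℕ) {v : ℕ}, v < 2 ^ 112 →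
    runW tbl w v < 2 ^ 112
  | [], _, hv => hv
  | x :: _, _, _ => app_lt (h x).2 _

theorem runAll_eq {tbl : ℕ → List ℕ} (h : TableOK tbl) (l : List ℕ) (hl : ∀ a ∈ l, a < 2 ^ 112) :
    ∀ w : List ℕ, runAll tbl (ones l.length) w (packL l) = packL (l.map (runW tbl w))
  | [] => by
    show packL l = packL (l.map fun a => a)
    rw [List.map_id']
  | x :: w => by
    show strict (runAll tbl (ones l.length) w (packL l)) (fun v => appAll (ones l.length) v (tbl x) 0) = _
    rw [strict_eq, runAll_eq h l hl w]
    have e := appAll_eq (l.map (runW tbl w))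
      (fun a ha => by obtain ⟨b, hb, rfl⟩ := List.mem_map.1 ha; exact runW_lt h w (hl b hb))
      (tbl x) 0 (h x).2 (by simpa using (h x).1)
    rw [List.length_map] at e
    rw [e, List.map_map]
    exact congrArg packL (List.map_congr_left fun a _ => by simp only [Function.comp_apply, Nat.shiftRight_zero]; rfl)

/-- The unit vectors. -/
noncomputable def units (n : ℕ) : List ℕ := (List.range n).map fun i => 2 ^ i

/-- The check that two words act alike. -/
noncomputable def sameMap (tbl : ℕ → List ℕ) (w w' : List ℕ) : Bool :=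
  strict (ones 112) fun o => strict (packL (units 112)) fun U =>
    Nat.beq (runAll tbl o w U) (runAll tbl o w' U)

theorem runW_eq_of_units {tbl : ℕ → List ℕ} (w w' : List ℕ) : ∀ n,
    (∀ i < n, runW tbl w (2 ^ i) = runW tbl w' (2 ^ i)) → ∀ v < 2 ^ n, runW tbl w v = runW tbl w' v
  | 0, _, v, hv => by
    obtain rfl : v = 0 := by simpa using hv
    rw [runW_zero, runW_zero]
  | n + 1, h, v, hv => by
    by_cases hn : v < 2 ^ n
    · exact runW_eq_of_units w w' n (fun i hi => h i (by omega)) v hn
    · have hlow : v ^^^ 2 ^ n < 2 ^ n := by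
        have htop : v.testBit n = true := by
          have : v / 2 ^ n = 1 := Nat.div_eq_of_lt_le (by omega) (by rw [pow_succ] at hv; omega)
          rw [Nat.testBit_eq_decide_div_mod_eq, this]; rfl
        refine Nat.lt_pow_two_of_testBit _ fun i hi => ?_
        rw [Nat.testBit_xor, Nat.testBit_two_pow]
        rcases Nat.lt_or_eq_of_le hi with hi' | rfl
        · rw [Nat.testBit_eq_false_of_lt (lt_of_lt_of_le hv (Nat.pow_le_pow_right (by norm_num) hi'))]
          simp [Nat.ne_of_lt hi']
        · simp [htop]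
      have hlo := runW_eq_of_units w w' n (fun i hi => h i (by omega)) _ hlow
      have e : v = (v ^^^ 2 ^ n) ^^^ 2 ^ n := by rw [Nat.xor_assoc, Nat.xor_self, Nat.xor_zero]
      conv_lhs => rw [e]
      conv_rhs => rw [e]
      rw [runW_xor tbl w (v ^^^ 2 ^ n), runW_xor tbl w' (v ^^^ 2 ^ n), hlo, h n (by omega)]

theorem sameMap_sound {tbl : ℕ → List ℕ} (h : TableOK tbl) {w w' : List ℕ} (e : sameMap tbl w w' = true)
    {v : ℕ} (hv : v < 2 ^ 112) : runW tbl w v = runW tbl w' v := by
  refine runW_eq_of_units w w' 112 (fun i hi => ?_) v hv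
  rw [sameMap, strict_eq, strict_eq] at e
  have hu : ∀ a ∈ units 112, a < 2 ^ 112 := by
    intro a ha
    obtain ⟨j, hj, rfl⟩ := List.mem_map.1 ha
    exact Nat.pow_lt_pow_right (by norm_num) (List.mem_range.1 hj)
  have hlen : (units 112).length = 112 := by simp [units]
  have e' := Nat.eq_of_beq_eq_true e
  have r1 := runAll_eq h (units 112) hu w
  have r2 := runAll_eq h (units 112) hu w'
  rw [hlen] at r1 r2
  rw [r1, r2] at e'
  have hl := packL_inj _ _ (by simp)
    (fun a ha => by obtain ⟨b, hb, rfl⟩ := List.mem_map.1 ha; exact runW_lt h _ (hu b hb))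
    (fun a ha => by obtain ⟨b, hb, rfl⟩ := List.mem_map.1 ha; exact runW_lt h _ (hu b hb)) e'
  have := List.map_inj_left.1 hl (2 ^ i) (List.mem_map.2 ⟨i, List.mem_range.2 hi, rfl⟩)
  exact this

end CfsgLib.Sporadic.J4Order
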