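import Cfsg.Agent.Lib.Sporadic.J4Order.CertD0
import Cfsg.Agent.Lib.Sporadic.J4Order.CertD1

/-!
# The orbit of 15180 vectors and the stabiliser of one of them (owner: helper21)
-/

set_option autoImplicit false
set_option maxRecDepth 40000

namespace CfsgLib.Sporadic.J4Order

open CfsgLib.Sporadic.J4Rep (V app runW)

/-- The third generator. -/
noncomputable def tP : Equiv.Perm V := let2 4

theorem tP_sq : tP * tP = 1 := by
  have h : eqW [4, 4] [] = true := by decide +kernel
  simpa [el, tP] using el_eq h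

theorem tP_inv : tP⁻¹ = tP := inv_eq_of_mul_eq_one_right tP_sq

theorem repW_one : repWs.getD 1 [] = [4] := by decide +kernel

theorem repW_zero : repWs.getD 0 [] = [] := by decide +kernel

/-- A numbered vector. -/
noncomputable def vA (p : ℕ) : V := ⟨vecAt p, vecAt_lt p⟩

theorem el_vA_eq {w : List ℕ} (hw : ∀ k ∈ w, k < 17) {p c : ℕ} (h : runW tbl2 w (vecAt p) = vecAt c) :
    el w (vA p) = vA c :=
  Subtype.ext (by rw [el_apply hw]; exact h)

/-- The vector fixed by the subgroup. -/
noncomputable def oneV : V := ⟨oneVec, by decide +kernel⟩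

theorem one_check : ([0, 2, 6, 7, 8, 9, 10, 11, 12, 13, 14, 15, 16] : List ℕ).all
    (fun k => Nat.beq (app (tbl2 k) oneVec) oneVec) = true := by decide +kernel

theorem u_check : Nat.beq (app (tbl2 4) oneVec) (vecAt 0) = true := by decide +kernel

theorem nG_le_fix : nG ≤ MulAction.stabilizer (Equiv.Perm V) oneV := by
  have hk : ∀ k ∈ ([0, 2, 6, 7, 8, 9, 10, 11, 12, 13, 14, 15, 16] : List ℕ),
      let2 k ∈ MulAction.stabilizer (Equiv.Perm V) oneV := by
    intro k hk
    have h17 : k < 17 := by revert k; decide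
    rw [MulAction.mem_stabilizer_iff]
    refine Subtype.ext ?_
    rw [Equiv.Perm.smul_def, let2_apply h17]
    exact Nat.eq_of_beq_eq_true (List.all_eq_true.1 one_check k hk)
  refine sup_le ?_ ?_
  · have : ∀ n ≤ 11, ∀ a, el (eWN n a) ∈ MulAction.stabilizer (Equiv.Perm V) oneV := by
      intro n
      induction n with
      | zero => exact fun _ a => one_mem _
      | succ n ih =>
        intro hn a
        rw [eWN_succ, el_append]
        refine mul_mem (ih (by omega) a) ?_
        cases a.testBit n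
        · exact one_mem _
        · rw [cond_true, el_single]
          exact hk _ (by have : n < 11 := hn; interval_cases n <;> decide)
    rintro _ ⟨a, -, rfl⟩
    exact this 11 le_rfl a
  · rw [rK_range, Subgroup.closure_le]
    rintro _ (rfl | rfl)
    · exact hk 0 (by decide)
    · exact hk 2 (by decide)

theorem tP_one : tP oneV = vA 0 := by
  refine Subtype.ext ?_
  rw [tP, let2_apply (by norm_num)]
  exact Nat.eq_of_beq_eq_true u_check

theorem dG1_fix {d : Equiv.Perm V} (hd : d ∈ dG gens1) : d (vA 0) = vA 0 := by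
  have h := conj_mem_nG gens1_ok hd
  rw [repW_one, el_single] at h
  have h' := MulAction.mem_stabilizer_iff.1 (nG_le_fix h)
  rw [Equiv.Perm.smul_def] at h'
  change (tP⁻¹ * d * tP) oneV = oneV at h'
  rw [Equiv.Perm.mul_apply, Equiv.Perm.mul_apply, tP_one] at h'
  have h'' := congrArg tP h'
  rw [Equiv.Perm.coe_inv, Equiv.apply_symm_apply, tP_one] at h''
  exact h''

theorem gW_lt {r : List ℕ} {gs : List (ℕ × List ℕ × List ℕ)} (h : gensOK r gs = true)
    {g : ℕ × List ℕ × List ℕ} (hg : g ∈ gs) : ∀ k ∈ gW g, k < 17 := by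
  intro k hk
  rcases List.mem_append.1 hk with hk | hk
  · exact (mem_eW hk).2
  · have := ((gensOK_spec h).2 g hg).2.1 k hk
    omega

theorem mem_of_tree {r : List ℕ} {gs : List (ℕ × List ℕ × List ℕ)} (h : gensOK r gs = true) {g p c : ℕ}
    (hg : g < (gs.map gW).length) (he : runW tbl2 ((gs.map gW).getD g []) (vecAt p) = vecAt c) :
    ∃ d ∈ dG gs, d (vA p) = vA c := by
  rw [List.getD_eq_getElem _ _ hg, List.getElem_map] at he
  rw [List.length_map] at hg
  exact ⟨_, gen_mem_dG (List.getElem_mem hg), el_vA_eq (gW_lt h (List.getElem_mem hg)) he⟩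

theorem exists_to {p : ℕ} (hp : p < 15180) : ∃ n ∈ nG, n (vA 0) = vA p := by
  refine treeOK_sound tree0_ok (fun p => ∃ n ∈ nG, n (vA 0) = vA p) ?_ ?_ hp
  · rintro g p c hg he ⟨n, hn, e⟩
    obtain ⟨d, hd, hd'⟩ := mem_of_tree gens0_ok hg he
    exact ⟨d * n, mul_mem (dG_le_nG gens0_ok hd) hn, by rw [Equiv.Perm.mul_apply, e, hd']⟩
  · intro r hr
    have h0 : roots0.map (·.1) = [0] := by decide +kernel
    rw [h0, List.mem_singleton] at hr
    subst hr
    exact ⟨1, one_mem _, rfl⟩

theorem rank_check : distinctOK rankBlocks = true := by decide +kernel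

theorem rank_lt : rankBlocks.all (fun b => (idx b.1 b.2).all fun p => Nat.blt p 15180) = true := by
  decide +kernel

theorem incr_spec : ∀ (l : List ℕ) (s : ℕ),
    incr l s = 0 ∨ (s ≤ incr l s ∧ (∀ x ∈ l, s ≤ x ∧ x < incr l s) ∧ l.Nodup)
  | [], s => Or.inr ⟨le_rfl, by simp, List.nodup_nil⟩
  | x :: l, s => by
    show cond (Nat.ble s x) (strict (Nat.succ x) (incr l)) 0 = 0 ∨ (s ≤ cond (Nat.ble s x) (strict (Nat.succ x) (incr l)) 0 ∧
      (∀ y ∈ x :: l, s ≤ y ∧ y < cond (Nat.ble s x) (strict (Nat.succ x) (incr l)) 0) ∧ (x :: l).Nodup)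
    cases h : Nat.ble s x with
    | false => exact Or.inl rfl
    | true =>
      rw [cond_true, strict_eq]
      have hs := Nat.le_of_ble_eq_true h
      rcases incr_spec l (x + 1) with h0 | ⟨h1, h2, h3⟩
      · exact Or.inl h0
      · have h1' : x + 1 ≤ incr l (x + 1) := h1
        refine Or.inr ⟨show s ≤ incr l (x + 1) by omega, ?_,
          List.nodup_cons.2 ⟨fun hx => by have := (h2 x hx).1; omega, h3⟩⟩
        intro y hy
        show s ≤ y ∧ y < incr l (x + 1)
        rcases List.mem_cons.1 hy with rfl | hy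
        · omega
        · have := h2 y hy
          omega

theorem rank_spec : ∀ (bs : List (ℕ × ℕ)) (s : ℕ),
    0 < List.rec (motive := fun _ => ℕ → ℕ) (fun s => s)
      (fun b _ ih s => strict (incr ((idx b.1 b.2).map vecAt) s) fun t => cond (Nat.beq t 0) 0 (ih t)) bs s →
    (bs.flatMap fun b => (idx b.1 b.2).map vecAt).Nodup ∧
      ∀ x ∈ bs.flatMap (fun b => (idx b.1 b.2).map vecAt), s ≤ x
  | [], _, _ => by simp
  | b :: bs, s, h => by
    simp only [strict_eq] at h
    cases hz : Nat.beq (incr ((idx b.1 b.2).map vecAt) s) 0 with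
    | true => rw [hz] at h; simp at h
    | false =>
      rw [hz, cond_false] at h
      rcases incr_spec ((idx b.1 b.2).map vecAt) s with h0 | ⟨h1, h2, h3⟩
      · rw [h0] at hz; simp at hz
      · obtain ⟨h4, h5⟩ := rank_spec bs _ (by simpa only [strict_eq] using h)
        rw [List.flatMap_cons]
        refine ⟨List.nodup_append.2 ⟨h3, h4, fun x hx y hy => ?_⟩, ?_⟩
        · have := (h2 x hx).2
          have := h5 y hy
          omega
        · intro x hx
          rcases List.mem_append.1 hx with hx | hx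
          · exact (h2 x hx).1
          · exact le_trans h1 (h5 x hx)

theorem points_sub : vA '' Set.Iio 15180 ⊆ MulAction.orbit nG (vA 0) := by
  rintro _ ⟨p, hp, rfl⟩
  obtain ⟨n, hn, e⟩ := exists_to hp
  exact ⟨⟨n, hn⟩, e⟩

theorem points_card : 15180 ≤ (vA '' Set.Iio 15180).ncard := by
  have hfin : (vA '' Set.Iio 15180).Finite := (Set.finite_Iio 15180).image _
  have h := rank_check
  rw [distinctOK, Bool.and_eq_true, Nat.blt_eq] at h
  obtain ⟨hnd, -⟩ := rank_spec rankBlocks 1 h.1
  have e := Nat.eq_of_beq_eq_true h.2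
  have hsub : ((rankBlocks.flatMap fun b => (idx b.1 b.2).map vecAt).toFinset : Set ℕ) ⊆
      (fun v : V => v.1) '' (vA '' Set.Iio 15180) := by
    intro x hx
    rw [Finset.mem_coe, List.mem_toFinset, List.mem_flatMap] at hx
    obtain ⟨b, hb, hx⟩ := hx
    obtain ⟨p, hp, rfl⟩ := List.mem_map.1 hx
    have := List.all_eq_true.1 (List.all_eq_true.1 rank_lt b hb) p hp
    exact ⟨vA p, ⟨p, by simpa using this, rfl⟩, rfl⟩
  have hle := (Set.ncard_le_ncard hsub (hfin.image _)).trans (Set.ncard_image_le hfin)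
  rw [Set.ncard_coe_finset, List.toFinset_card_of_nodup hnd, List.length_flatMap] at hle
  simp only [List.length_map, idx_length] at hle
  rwa [e] at hle

theorem card_le_orbit : 15180 ≤ Nat.card (MulAction.orbit nG (vA 0)) := by
  rw [Nat.card_coe_set_eq]
  exact points_card.trans (Set.ncard_le_ncard points_sub (Set.toFinite _))

theorem le_of_mul_eq {A B a b : ℕ} (hA : a ≤ A) (hB : b ≤ B) (h : A * B = a * b) (ha : 0 < a) (hb : 0 < b) :
    A ≤ a ∧ B ≤ b :=
  ⟨Nat.le_of_mul_le_mul_right ((Nat.mul_le_mul_left A hB).trans (le_of_eq h)) hb,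
    Nat.le_of_mul_le_mul_left ((Nat.mul_le_mul_right B hA).trans (le_of_eq h)) ha⟩

theorem points : (∀ n ∈ nG, n (vA 0) = vA 0 → n ∈ dG gens1) ∧
    ∀ n ∈ nG, ∃ p < 15180, n (vA 0) = vA p := by
  have hD : dG gens1 ≤ nG := dG_le_nG gens1_ok
  have hsub : (dG gens1).subgroupOf nG ≤ MulAction.stabilizer nG (vA 0) := fun x hx => dG1_fix hx
  have hcD : 33030144 ≤ Nat.card ((dG gens1).subgroupOf nG) := by
    rw [Nat.card_congr (Subgroup.subgroupOfEquivOfLe hD).toEquiv]
    exact dG_card_ge gens1_ok bound1_ok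
  have heq : Nat.card (MulAction.orbit nG (vA 0)) * Nat.card (MulAction.stabilizer nG (vA 0)) =
      2048 * 244823040 := by
    rw [← card_nG, Subgroup.card_eq_card_quotient_mul_card_subgroup (MulAction.stabilizer nG (vA 0)),
      Nat.card_congr (MulAction.orbitEquivQuotientStabilizer nG (vA 0))]
  have hS := le_trans hcD (Subgroup.card_le_of_le hsub)
  have hO := card_le_orbit
  have hN : 2048 * 244823040 = 15180 * 33030144 := by norm_num
  obtain ⟨hOle, hSle⟩ := le_of_mul_eq hO hS (heq.trans hN) (by norm_num) (by norm_num)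
  refine ⟨fun n hn h => ?_, fun n hn => ?_⟩
  · have hst : (dG gens1).subgroupOf nG = MulAction.stabilizer nG (vA 0) :=
      Subgroup.eq_of_le_of_card_ge hsub (le_trans hSle hcD)
    have : (⟨n, hn⟩ : nG) ∈ MulAction.stabilizer nG (vA 0) := h
    rw [← hst] at this
    exact this
  · have e : vA '' Set.Iio 15180 = MulAction.orbit nG (vA 0) := by
      refine Set.eq_of_subset_of_ncard_le points_sub ?_ (Set.toFinite _)
      rw [← Nat.card_coe_set_eq (MulAction.orbit nG (vA 0))]
      exact hOle.trans points_card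
    have h : n (vA 0) ∈ MulAction.orbit nG (vA 0) := ⟨⟨n, hn⟩, rfl⟩
    rw [← e] at h
    obtain ⟨p, hp, e'⟩ := h
    exact ⟨p, hp, e'.symm⟩

end CfsgLib.Sporadic.J4Order
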