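import Cfsg.Agent.Lib.Sporadic.J4Order.NGroup

/-!
# Lower bounds for the orders of subgroups of 2^11:M24 given by generators (owner: helper21)
-/

set_option autoImplicit false
set_option maxRecDepth 40000

namespace CfsgLib.Sporadic.J4Order

open Cfsg
open CfsgLib.Sporadic (bitmap testBit_bitmap Rep pmul pone levelOK fixOf mem_fixOf exists_of_level popc setOfMask
  card_setOfMask pt)
open CfsgLib.Sporadic.J4Rep (V)
open scoped Pointwise

/-- The word of a generator. -/
noncomputable def gW (g : ℕ × List ℕ × List ℕ) : List ℕ := eW g.1 ++ g.2.1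

/-- The subgroup generated. -/
noncomputable def dG (gs : List (ℕ × List ℕ × List ℕ)) : Subgroup (Equiv.Perm V) :=
  Subgroup.closure {x | ∃ g ∈ gs, x = el (gW g)}

theorem gen_mem_dG {gs : List (ℕ × List ℕ × List ℕ)} {g : ℕ × List ℕ × List ℕ} (hg : g ∈ gs) :
    el (gW g) ∈ dG gs :=
  Subgroup.subset_closure ⟨g, hg, rfl⟩

/-- The generators lie in the subgroup, and their conjugates by the representative as recorded. -/
noncomputable def gensOK (r : List ℕ) (gs : List (ℕ × List ℕ × List ℕ)) : Bool :=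
  okW r && gs.all fun g => Nat.blt g.1 2048 && g.2.1.all (fun k => Nat.blt k 4) && nW g.2.2 &&
    eqW (invW r ++ gW g ++ r) g.2.2

theorem gensOK_spec {r : List ℕ} {gs : List (ℕ × List ℕ × List ℕ)} (h : gensOK r gs = true) :
    (∀ k ∈ r, k < 17) ∧ ∀ g ∈ gs, g.1 < 2048 ∧ (∀ k ∈ g.2.1, k < 4) ∧ el g.2.2 ∈ nG ∧
      (el r)⁻¹ * el (gW g) * el r = el g.2.2 := by
  simp only [gensOK, Bool.and_eq_true, List.all_eq_true, Nat.blt_eq] at h
  refine ⟨okW_iff.1 h.1, fun g hg => ?_⟩
  obtain ⟨⟨⟨h1, h2⟩, h3⟩, h4⟩ := h.2 g hg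
  refine ⟨h1, h2, el_mem_nG (nW_iff.1 h3), ?_⟩
  have e := el_eq h4
  rwa [el_append, el_append, el_invW (okW_iff.1 h.1)] at e

theorem el_gW {g : ℕ × List ℕ × List ℕ} (h : ∀ k ∈ g.2.1, k < 4) :
    el (gW g) = eA g.1 * rK (J4Pres.val g.2.1) := by
  rw [gW, el_append, el_eq_rK h, eA]

theorem dG_le_nG {r : List ℕ} {gs : List (ℕ × List ℕ × List ℕ)} (h : gensOK r gs = true) : dG gs ≤ nG := by
  rw [dG, Subgroup.closure_le]
  rintro _ ⟨g, hg, rfl⟩
  obtain ⟨h1, h2, -, -⟩ := (gensOK_spec h).2 g hg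
  rw [SetLike.mem_coe, el_gW h2]
  exact mul_mem (eG_le_nG (eA_mem h1)) (rK_mem_nG _)

theorem conj_mem_nG {r : List ℕ} {gs : List (ℕ × List ℕ × List ℕ)} (h : gensOK r gs = true)
    {d : Equiv.Perm V} (hd : d ∈ dG gs) : (el r)⁻¹ * d * el r ∈ nG := by
  have hle : dG gs ≤ nG.comap ((MulAut.conj (el r)⁻¹).toMonoidHom) := by
    rw [dG, Subgroup.closure_le]
    rintro _ ⟨g, hg, rfl⟩
    obtain ⟨-, -, h3, h4⟩ := (gensOK_spec h).2 g hg
    show (el r)⁻¹ * el (gW g) * (el r)⁻¹⁻¹ ∈ nG
    rw [inv_inv, h4]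
    exact h3
  have := hle hd
  simpa using this

/-- The sums of a list of translations. -/
noncomputable def spanOf (as : List ℕ) : List ℕ :=
  List.rec [0] (fun a _ ih => ih ++ ih.map (fun x => a ^^^ x)) as

/-- No repetition. -/
noncomputable def nodupM (l : List ℕ) : ℕ → Bool :=
  List.rec (motive := fun _ => ℕ → Bool) (fun _ => true)
    (fun x _ ih M => !M.testBit x && strict (M ||| 1 <<< x) ih) l

theorem nodupM_spec : ∀ (l : List ℕ) (M : ℕ), nodupM l M = true →
    l.Nodup ∧ ∀ x ∈ l, M.testBit x = false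
  | [], _, _ => by simp
  | x :: l, M, h => by
    change (!M.testBit x && strict (M ||| 1 <<< x) (nodupM l)) = true at h
    rw [strict_eq, Bool.and_eq_true, Bool.not_eq_true'] at h
    obtain ⟨h1, h2⟩ := nodupM_spec l _ h.2
    refine ⟨List.nodup_cons.2 ⟨fun hx => ?_, h1⟩, ?_⟩
    · simpa [Nat.testBit_or, Nat.one_shiftLeft, Nat.testBit_two_pow] using h2 x hx
    · intro y hy
      rcases List.mem_cons.1 hy with rfl | hy
      · exact h.1
      · have := h2 y hy
        rw [Nat.testBit_or, Bool.or_eq_false_iff] at this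
        exact this.1

/-- The translations among the generators. -/
noncomputable def pureOf (gs : List (ℕ × List ℕ × List ℕ)) : List ℕ :=
  (gs.filter fun g => g.2.1.isEmpty).map fun g => g.1

/-- The packed images in M24 of the other generators. -/
noncomputable def moversOf (gs : List (ℕ × List ℕ × List ℕ)) : List ℕ :=
  (gs.filter fun g => !g.2.1.isEmpty).map fun g => J4Pres.pword g.2.1

/-- The packed permutation of a product of movers. -/
noncomputable def packProd (pks : List ℕ) (ix : List ℕ) : ℕ :=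
  List.rec pone (fun j _ ih => pmul (pks.getD j pone) ih) ix

/-- A chain of transversals. -/
noncomputable def chainOK (pks : List ℕ) (lv : List (List ℕ × ℕ × List (List ℕ) × ℕ)) : List ℕ → Bool :=
  List.rec (motive := fun _ => List ℕ → Bool) (fun _ => true)
    (fun l _ ih pre => l.1 == pre && levelOK l.1 l.2.1 (l.2.2.1.map (packProd pks)) l.2.2.2 &&
      ih (l.2.1 :: pre)) lv

/-- The check of the lower bound. -/
noncomputable def boundOK (gs : List (ℕ × List ℕ × List ℕ)) (lv : List (List ℕ × ℕ × List (List ℕ) × ℕ))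
    (lo : ℕ) : Bool :=
  strict (spanOf (pureOf gs)).length (fun k => Nat.beq lo (k * (lv.map fun l => popc l.2.2.2).prod)) &&
    nodupM (spanOf (pureOf gs)) 0 && chainOK (moversOf gs) lv []

theorem chain_le {K : Subgroup (Equiv.Perm GolayPt)} {pks : List ℕ}
    (hK : ∀ ix : List ℕ, ∃ σ ∈ K, Rep σ (packProd pks ix)) :
    ∀ (lv : List (List ℕ × ℕ × List (List ℕ) × ℕ)) (pre : List ℕ), chainOK pks lv pre = true →
      (lv.map fun l => popc l.2.2.2).prod ≤ Nat.card (fixOf K pre)
  | [], pre, _ => by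
    rw [List.map_nil, List.prod_nil]
    exact Nat.one_le_iff_ne_zero.2 Nat.card_pos.ne'
  | (p, b, tr, O) :: lv, pre, h => by
    change (p == pre && levelOK p b (tr.map (packProd pks)) O && chainOK pks lv (b :: pre)) = true at h
    rw [Bool.and_eq_true, Bool.and_eq_true] at h
    obtain ⟨⟨h1, h2⟩, h3⟩ := h
    obtain rfl : p = pre := eq_of_beq h1
    have hK' : ∀ q ∈ tr.map (packProd pks), ∃ σ ∈ K, Rep σ q := by
      intro q hq
      obtain ⟨ix, -, rfl⟩ := List.mem_map.1 hq
      exact hK ix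
    have hσ := fun x : {x // x ∈ setOfMask O} => exists_of_level h2 hK' x.2
    choose σ hσ1 hσ2 using hσ
    let f : {x // x ∈ setOfMask O} × fixOf K (b :: p) → fixOf K p := fun q =>
      ⟨σ q.1 * (q.2 : Equiv.Perm GolayPt),
        mul_mem (hσ1 q.1) ((show fixOf K (b :: p) ≤ fixOf K p from inf_le_left) q.2.2)⟩
    have hf : Function.Injective f := by
      intro q q' e
      have e' : σ q.1 * (q.2 : Equiv.Perm GolayPt) = σ q'.1 * q'.2 := congrArg Subtype.val e
      have hx : q.1 = q'.1 := by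
        have hb := fun r : fixOf K (b :: p) => (mem_fixOf.1 r.2).2 b List.mem_cons_self
        apply Subtype.ext
        have := congrArg (fun π : Equiv.Perm GolayPt => π (pt b)) e'
        simpa [hb, hσ2] using this
      rw [hx] at e'
      exact Prod.ext hx (Subtype.ext (mul_left_cancel e'))
    have h4 := Nat.card_le_card_of_injective f hf
    rw [Nat.card_prod, Nat.card_eq_finsetCard, card_setOfMask] at h4
    rw [List.map_cons, List.prod_cons]
    exact le_trans (Nat.mul_le_mul_left _ (chain_le hK lv (b :: p) h3)) h4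

theorem dG_card_split {r : List ℕ} {gs : List (ℕ × List ℕ × List ℕ)} (hg : gensOK r gs = true)
    {lv : List (List ℕ × ℕ × List (List ℕ) × ℕ)} {lo : ℕ} (h : boundOK gs lv lo = true) :
    (spanOf (pureOf gs)).Nodup ∧ (∀ s ∈ spanOf (pureOf gs), s < 2048 ∧ eA s ∈ dG gs) ∧
      lo = (spanOf (pureOf gs)).length * (lv.map fun l => popc l.2.2.2).prod ∧
      (spanOf (pureOf gs)).length ≤ Nat.card ↥(dG gs ⊓ eG) ∧
      Nat.card ↥(dG gs ⊓ eG) * (lv.map fun l => popc l.2.2.2).prod ≤ Nat.card (dG gs) := by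
  rw [boundOK, strict_eq, Bool.and_eq_true, Bool.and_eq_true] at h
  obtain ⟨⟨hlo, hnd⟩, hch⟩ := h
  have gs_spec := (gensOK_spec hg).2
  set D := dG gs with hD
  -- the translations
  have hpure : ∀ a ∈ pureOf gs, a < 2048 ∧ eA a ∈ D := by
    intro a ha
    obtain ⟨g, hg', rfl⟩ := List.mem_map.1 ha
    rw [List.mem_filter, List.isEmpty_iff] at hg'
    obtain ⟨h1, h2, -, -⟩ := gs_spec g hg'.1
    refine ⟨h1, ?_⟩
    have e := el_gW h2
    rw [hg'.2] at e
    have hv : J4Pres.val [] = 1 := by simp [J4Pres.val]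
    rw [hv, map_one, mul_one] at e
    exact e ▸ gen_mem_dG hg'.1
  have hspan : ∀ as : List ℕ, (∀ a ∈ as, a < 2048 ∧ eA a ∈ D) → ∀ s ∈ spanOf as, s < 2048 ∧ eA s ∈ D := by
    intro as
    induction as with
    | nil =>
      intro _ s hs
      obtain rfl : s = 0 := by simpa [spanOf] using hs
      exact ⟨by norm_num, by rw [eA_zero]; exact one_mem D⟩
    | cons a as ih =>
      intro has s hs
      have ih' := ih fun x hx => has x (List.mem_cons_of_mem _ hx)
      change s ∈ spanOf as ++ (spanOf as).map (fun x => a ^^^ x) at hs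
      rcases List.mem_append.1 hs with hs | hs
      · exact ih' s hs
      · obtain ⟨t, ht, rfl⟩ := List.mem_map.1 hs
        obtain ⟨ha1, ha2⟩ := has a List.mem_cons_self
        exact ⟨Nat.xor_lt_two_pow (n := 11) ha1 (ih' t ht).1, by rw [eA_xor]; exact mul_mem ha2 (ih' t ht).2⟩
  have hA : (spanOf (pureOf gs)).length ≤ Nat.card ↥(D ⊓ eG) := by
    let f : Fin (spanOf (pureOf gs)).length → ↥(D ⊓ eG) := fun i =>
      ⟨eA ((spanOf (pureOf gs))[i.1]),
        (hspan _ hpure _ (List.getElem_mem _)).2, eA_mem (hspan _ hpure _ (List.getElem_mem _)).1⟩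
    have hf : Function.Injective f := by
      intro i j e
      have e' : eA ((spanOf (pureOf gs))[i.1]) = eA ((spanOf (pureOf gs))[j.1]) := congrArg Subtype.val e
      have := eA_injOn (Nat.xor_lt_two_pow (n := 11) (hspan _ hpure _ (List.getElem_mem i.2)).1
        (hspan _ hpure _ (List.getElem_mem j.2)).1) (by rw [eA_xor, e', eA_sq])
      exact Fin.ext ((List.Nodup.getElem_inj_iff (nodupM_spec _ _ hnd).1).1 (Nat.xor_eq_zero_iff.1 this))
    simpa using Nat.card_le_card_of_injective f hf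
  -- the image
  set C := (D ⊔ eG).comap rK with hC
  have hinj : Function.Injective (M24.subtype.comp J4Pres.toM24) :=
    Subtype.val_injective.comp J4Pres.toM24_injective
  set P := C.map (M24.subtype.comp J4Pres.toM24) with hP
  have hmov : ∀ j, ∃ σ ∈ P, Rep σ ((moversOf gs).getD j pone) := by
    intro j
    by_cases hj : j < (moversOf gs).length
    · rw [List.getD_eq_getElem _ _ hj]
      obtain ⟨g, hg', e⟩ := List.mem_map.1 (List.getElem_mem hj)
      rw [List.mem_filter] at hg'
      rw [← e]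
      obtain ⟨h1, h2, -, -⟩ := gs_spec g hg'.1
      refine ⟨_, Subgroup.mem_map_of_mem _ (show J4Pres.val g.2.1 ∈ C from ?_), ?_⟩
      · show rK (J4Pres.val g.2.1) ∈ D ⊔ eG
        have e2 : rK (J4Pres.val g.2.1) = eA g.1 * el (gW g) := by
          rw [el_gW h2, ← mul_assoc, eA_sq, one_mul]
        rw [e2]
        exact mul_mem (Subgroup.mem_sup_right (eA_mem h1)) (Subgroup.mem_sup_left (gen_mem_dG hg'.1))
      · have hw : J4Pres.toM24 (J4Pres.val g.2.1) = (g.2.1.map J4Pres.perm).prod := by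
          rw [J4Pres.val, map_list_prod, List.map_map]
          exact congrArg List.prod (List.map_congr_left fun k _ => J4Pres.toM24_L k)
        rw [MonoidHom.comp_apply, hw]
        exact J4Pres.rep_word _
    · rw [List.getD_eq_default _ _ (Nat.le_of_not_lt hj)]
      exact ⟨1, one_mem P, Rep.one⟩
  have hwords : ∀ ix, ∃ σ ∈ P, Rep σ (packProd (moversOf gs) ix) := by
    intro ix
    induction ix with
    | nil => exact ⟨1, one_mem P, Rep.one⟩
    | cons j ix ih =>
      obtain ⟨σ, hσ, hr⟩ := hmov j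
      obtain ⟨τ, hτ, hr'⟩ := ih
      exact ⟨σ * τ, mul_mem hσ hτ, hr.mul hr'⟩
  have hB : (lv.map fun l => popc l.2.2.2).prod ≤ Nat.card C := by
    refine (chain_le hwords lv [] hch).trans (le_of_eq ?_)
    show Nat.card P = _
    rw [hP]
    exact Subgroup.card_map_of_injective hinj
  -- both together
  have hdec : ∀ g : C, ∃ d ∈ D, ∃ e ∈ eG, rK g.1 = d * e := by
    intro g
    have h : rK g.1 ∈ ((D : Set (Equiv.Perm V)) * (eG : Set (Equiv.Perm V))) := by
      rw [← Subgroup.coe_mul_of_left_le_normalizer_right D eG ((dG_le_nG hg).trans nG_le_normalizer)]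
      exact g.2
    obtain ⟨d, hd, e, he, h⟩ := h
    exact ⟨d, hd, e, he, h.symm⟩
  choose d hd e he hde using hdec
  let f : ↥(D ⊓ eG) × C → D := fun q => ⟨d q.2 * q.1.1, mul_mem (hd q.2) q.1.2.1⟩
  have hf : Function.Injective f := by
    intro q q' hq
    have hq' : d q.2 * (q.1 : Equiv.Perm V) = d q'.2 * q'.1 := congrArg Subtype.val hq
    have hg2 : q.2 = q'.2 := by
      apply Subtype.ext
      refine (mul_inv_eq_one.1 (rK_mem_eG ?_) :)
      have hm : (rK q.2.1)⁻¹ * rK q'.2.1 ∈ eG := by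
        have key : (rK q.2.1)⁻¹ * rK q'.2.1 = (e q.2)⁻¹ * (q.1 * (q'.1 : Equiv.Perm V)⁻¹) * e q'.2 := by
          have h1 : d q'.2 = d q.2 * q.1 * (q'.1 : Equiv.Perm V)⁻¹ := by rw [hq', mul_inv_cancel_right]
          rw [hde q.2, hde q'.2, h1]
          group
        rw [key]
        exact mul_mem (mul_mem (inv_mem (he _)) (mul_mem q.1.2.2 (inv_mem q'.1.2.2))) (he _)
      have hn := (Subgroup.mem_normalizer_iff.1 (rK_le_normalizer ⟨q.2.1, rfl⟩) _).1 (inv_mem hm)
      simpa [mul_assoc] using hn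
    have h1 : q.1 = q'.1 := by
      rw [hg2] at hq'
      exact Subtype.ext (mul_left_cancel hq')
    exact Prod.ext h1 hg2
  have h4 := Nat.card_le_card_of_injective f hf
  rw [Nat.card_prod] at h4
  exact ⟨(nodupM_spec _ _ hnd).1, hspan _ hpure, Nat.eq_of_beq_eq_true hlo, hA,
    le_trans (Nat.mul_le_mul_left _ hB) h4⟩

theorem dG_card_ge {r : List ℕ} {gs : List (ℕ × List ℕ × List ℕ)} (hg : gensOK r gs = true)
    {lv : List (List ℕ × ℕ × List (List ℕ) × ℕ)} {lo : ℕ} (h : boundOK gs lv lo = true) :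
    lo ≤ Nat.card (dG gs) := by
  obtain ⟨-, -, e, hA, hB⟩ := dG_card_split hg h
  rw [e]
  exact le_trans (Nat.mul_le_mul_right _ hA) hB

end CfsgLib.Sporadic.J4Order
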