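import Cfsg.Agent.Lib.Sporadic.J4Order.Trees
import Cfsg.Agent.Lib.Sporadic.J4Order.Stab

/-!
# The check of the products with the third generator (owner: helper21)
-/

set_option autoImplicit false

namespace CfsgLib.Sporadic.J4Order

open CfsgLib.Sporadic.J4Rep (runW)

/-- The root rows of a representative: a path to the point, and the product rewritten. -/
noncomputable def rootsOK (r : List ℕ) (rows : List (ℕ × List ℕ × ℕ × List ℕ × List ℕ)) : Bool :=
  rows.all fun x => nW x.2.1 && Nat.beq (runW tbl2 x.2.1 (vecAt 0)) (vecAt x.1) && Nat.blt x.2.2.1 7 &&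
    nW x.2.2.2.1 && nW x.2.2.2.2 &&
    eqW ([4] ++ invW x.2.1 ++ r) (x.2.2.2.1 ++ repWs.getD x.2.2.1 [] ++ x.2.2.2.2)

end CfsgLib.Sporadic.J4Order
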