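import Cfsg.Agent.Lib.Sporadic.J4Order.Word
import Cfsg.Agent.Lib.Sporadic.J4Order.DataPoints
import Cfsg.Agent.Lib.Sporadic.Perms

/-!
# Checking trees on numbered vectors, a block of edges at a time (owner: helper21)
-/

set_option autoImplicit false
set_option maxRecDepth 20000

namespace CfsgLib.Sporadic.J4Order

open CfsgLib.Sporadic (bitmap testBit_bitmap)
open CfsgLib.Sporadic.J4Rep (runW)

/-- The vector with the given number. -/
noncomputable def vecAt (i : ℕ) : ℕ :=
  Nat.land (Nat.shiftRight (vecBlocks.getD (Nat.shiftRight i 10) 0) (Nat.mul 112 (Nat.land i 1023)))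
    5192296858534827628530496329220095

theorem vecAt_lt (i : ℕ) : vecAt i < 2 ^ 112 :=
  lt_of_le_of_lt (show _ &&& 5192296858534827628530496329220095 ≤ _ from Nat.and_le_right) (by norm_num)

/-- A list of numbers below 65536 from its code. -/
noncomputable def idx (n : ℕ) : ℕ → List ℕ :=
  Nat.rec (motive := fun _ => ℕ → List ℕ) (fun _ => [])
    (fun _ ih P => Nat.land P 65535 :: ih (Nat.shiftRight P 16)) n

theorem idx_length : ∀ n P : ℕ, (idx n P).length = n
  | 0, _ => rfl
  | n + 1, P => by
    show (Nat.land P 65535 :: idx n (Nat.shiftRight P 16)).length = n + 1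
    rw [List.length_cons, idx_length n]

/-- The slots of a packed list. -/
noncomputable def unpackL (n : ℕ) : ℕ → List ℕ :=
  Nat.rec (motive := fun _ => ℕ → List ℕ) (fun _ => [])
    (fun _ ih P => Nat.land P 5192296858534827628530496329220095 :: ih (Nat.shiftRight P 112)) n

theorem unpackL_packL : ∀ l : List ℕ, (∀ a ∈ l, a < 2 ^ 112) → unpackL l.length (packL l) = l
  | [], _ => rfl
  | a :: l, h => by
    have ha := h a List.mem_cons_self
    show (packL (a :: l) &&& 5192296858534827628530496329220095) :: unpackL l.length (packL (a :: l) >>> 112)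
      = a :: l
    have h1 : packL (a :: l) &&& 5192296858534827628530496329220095 = a := by
      rw [show (5192296858534827628530496329220095 : ℕ) = 2 ^ 112 - 1 by norm_num, Nat.and_two_pow_sub_one_eq_mod,
        packL_cons, Nat.add_mul_mod_self_left, Nat.mod_eq_of_lt ha]
    have h2 : packL (a :: l) >>> 112 = packL l := by
      rw [Nat.shiftRight_eq_div_pow, packL_cons, Nat.add_mul_div_left _ _ (Nat.two_pow_pos 112),
        Nat.div_eq_of_lt ha, Nat.zero_add]
    rw [h1, h2, unpackL_packL l fun x hx => h x (List.mem_cons_of_mem _ hx)]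

/-- The packed matrices of words, computed before use. -/
noncomputable def withMats {α : Type} (o U0 : ℕ) (ws : List (List ℕ)) : (List ℕ → α) → α :=
  List.rec (motive := fun _ => (List ℕ → α) → α) (fun k => k [])
    (fun w _ ih k => strict (runAll tbl2 o w U0) fun U => ih fun l => k (U :: l)) ws

theorem withMats_eq {α : Type} (o U0 : ℕ) : ∀ (ws : List (List ℕ)) (k : List ℕ → α),
    withMats o U0 ws k = k (ws.map fun w => runAll tbl2 o w U0)
  | [], _ => rfl
  | w :: ws, k => by
    show strict (runAll tbl2 o w U0) (fun U => withMats o U0 ws fun l => k (U :: l)) = _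
    rw [strict_eq, withMats_eq o U0 ws]
    rfl

/-- One block of edges in a tree: the new mask, or 0 on failure. -/
noncomputable def blockStep (Us : List ℕ) (M : ℕ) (b : ℕ × ℕ × ℕ × ℕ) : ℕ :=
  strict (ones b.2.1) fun o => strict (packL ((idx b.2.1 b.2.2.1).map vecAt)) fun S => cond
    (Nat.blt b.1 Us.length &&
      (idx b.2.1 b.2.2.1).all (fun p => Nat.beq (Nat.land (Nat.shiftRight M p) 1) 1) &&
      Nat.beq (appAll o S (unpackL 112 (Us.getD b.1 0)) 0) (packL ((idx b.2.1 b.2.2.2).map vecAt)))
    (Nat.lor M (bitmap id (idx b.2.1 b.2.2.2))) 0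

/-- The blocks one after another. -/
noncomputable def runBlocks (Us : List ℕ) (bs : List (ℕ × ℕ × ℕ × ℕ)) : ℕ → ℕ :=
  List.rec (motive := fun _ => ℕ → ℕ) (fun M => M) (fun b _ ih M => strict (blockStep Us M b) ih) bs

/-- All 15180 numbers are reached from the roots. -/
noncomputable def treeOK (ws : List (List ℕ)) (bs : List (ℕ × ℕ × ℕ × ℕ)) (rts : List ℕ) : Bool :=
  withMats (ones 112) (packL (units 112)) ws fun Us =>
    Nat.beq (runBlocks Us bs (bitmap id rts)) (Nat.sub (Nat.shiftLeft 1 15180) 1)

theorem testBit_of_land {M p : ℕ} (h : Nat.beq (Nat.land (Nat.shiftRight M p) 1) 1 = true) :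
    M.testBit p = true := by
  have h1 : (M >>> p) &&& 1 = 1 := Nat.eq_of_beq_eq_true h
  simp [Nat.testBit, Nat.and_comm, h1]

theorem app_two_pow : ∀ (A : List ℕ) (i : ℕ), J4Rep.app A (2 ^ i) = A.getD i 0
  | [], i => by simp [J4Rep.app_nil]
  | c :: A, 0 => by
    rw [J4Rep.app_cons, show (2 ^ 0) >>> 1 = 0 from rfl, J4Rep.app_zero]
    simp
  | c :: A, i + 1 => by
    rw [J4Rep.app_cons, Nat.testBit_two_pow, show (2 ^ (i + 1)) >>> 1 = 2 ^ i by
      rw [Nat.shiftRight_eq_div_pow, pow_one, pow_succ, Nat.mul_div_cancel _ (by norm_num)], app_two_pow A i]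
    simp

theorem linear_ext {f g : ℕ → ℕ} (hf : ∀ a b, f (a ^^^ b) = f a ^^^ f b) (hg : ∀ a b, g (a ^^^ b) = g a ^^^ g b) :
    ∀ n, (∀ i < n, f (2 ^ i) = g (2 ^ i)) → ∀ v < 2 ^ n, f v = g v
  | 0, _, v, hv => by
    obtain rfl : v = 0 := by simpa using hv
    have h0 := hf 0 0
    have h1 := hg 0 0
    simp only [Nat.xor_self] at h0 h1
    rw [h0, h1]
  | n + 1, h, v, hv => by
    by_cases hn : v < 2 ^ n
    · exact linear_ext hf hg n (fun i hi => h i (by omega)) v hn
    · have hlow : v ^^^ 2 ^ n < 2 ^ n := by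
        refine Nat.lt_pow_two_of_testBit _ fun i hi => ?_
        rw [Nat.testBit_xor, Nat.testBit_two_pow]
        rcases Nat.lt_or_eq_of_le hi with hi' | rfl
        · rw [Nat.testBit_eq_false_of_lt (lt_of_lt_of_le hv (Nat.pow_le_pow_right (by norm_num) hi'))]
          simp [Nat.ne_of_lt hi']
        · have : v / 2 ^ n = 1 := Nat.div_eq_of_lt_le (by omega) (by rw [pow_succ] at hv; omega)
          simp [Nat.testBit_eq_decide_div_mod_eq, this]
      have e := linear_ext hf hg n (fun i hi => h i (by omega)) _ hlow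
      rw [hf, hg, h n (by omega)] at e
      exact Nat.xor_left_inj.1 e

theorem matrix_apply (w : List ℕ) {v : ℕ} (hv : v < 2 ^ 112) :
    J4Rep.app (unpackL 112 (runAll tbl2 (ones 112) w (packL (units 112)))) v = runW tbl2 w v := by
  have hu : ∀ a ∈ units 112, a < 2 ^ 112 := by
    intro a ha
    obtain ⟨j, hj, rfl⟩ := List.mem_map.1 ha
    exact Nat.pow_lt_pow_right (by norm_num) (List.mem_range.1 hj)
  have hlen : (units 112).length = 112 := by simp [units]
  have r := runAll_eq tableOK (units 112) hu w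
  rw [hlen] at r
  have hlen' : ((units 112).map (runW tbl2 w)).length = 112 := by rw [List.length_map, hlen]
  have u := unpackL_packL ((units 112).map (runW tbl2 w))
    (fun a ha => by obtain ⟨b, hb, rfl⟩ := List.mem_map.1 ha; exact runW_lt tableOK w (hu b hb))
  rw [hlen'] at u
  rw [r, u]
  refine linear_ext (J4Rep.app_xor _) (J4Rep.runW_xor tbl2 w) 112 (fun i hi => ?_) v hv
  rw [app_two_pow, List.getD_eq_getElem _ _ (by rw [hlen']; exact hi), List.getElem_map]
  simp [units]

theorem blockStep_sound (ws : List (List ℕ)) (Q : ℕ → Prop)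
    (hQ : ∀ g p c, g < ws.length → runW tbl2 (ws.getD g []) (vecAt p) = vecAt c → Q p → Q c)
    (b : ℕ × ℕ × ℕ × ℕ) {M : ℕ} (hM : ∀ p, M.testBit p = true → Q p) :
    ∀ p, (blockStep (ws.map fun w => runAll tbl2 (ones 112) w (packL (units 112))) M b).testBit p = true →
      Q p := by
  obtain ⟨g, n, P, C⟩ := b
  intro q hq
  simp only [blockStep, strict_eq] at hq
  rw [Bool.cond_eq_ite] at hq
  split at hq
  case isFalse => simp at hq
  case isTrue hc =>
    change (M ||| bitmap id (idx n C)).testBit q = true at hq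
    rw [Nat.testBit_or, Bool.or_eq_true] at hq
    rcases hq with hq | hq
    · exact hM q hq
    rw [Bool.and_eq_true, Bool.and_eq_true, List.all_eq_true, Nat.blt_eq, List.length_map] at hc
    obtain ⟨⟨hg, h1⟩, h2⟩ := hc
    have hP : ∀ a ∈ (idx n P).map vecAt, a < 2 ^ 112 := fun a ha => by
      obtain ⟨p, -, rfl⟩ := List.mem_map.1 ha; exact vecAt_lt p
    rw [List.getD_eq_getElem _ _ (by rw [List.length_map]; exact hg), List.getElem_map] at h2
    set A := unpackL 112 (runAll tbl2 (ones 112) ws[g] (packL (units 112))) with hA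
    have hAlen : A.length = 112 ∧ ∀ c ∈ A, c < 2 ^ 112 := by
      have hgen : ∀ (m X : ℕ), (unpackL m X).length = m ∧ ∀ c ∈ unpackL m X, c < 2 ^ 112 := by
        intro m
        induction m with
        | zero => exact fun X => ⟨rfl, fun c hc => absurd hc List.not_mem_nil⟩
        | succ m ih =>
          intro X
          refine ⟨?_, fun c hc => ?_⟩
          · show (_ :: unpackL m _).length = m + 1
            rw [List.length_cons, (ih _).1]
          · change c ∈ (X &&& 5192296858534827628530496329220095) :: unpackL m (X >>> 112) at hc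
            rcases List.mem_cons.1 hc with rfl | hc
            · exact lt_of_le_of_lt Nat.and_le_right (by norm_num)
            · exact (ih _).2 c hc
      exact hgen 112 _
    have e := appAll_eq ((idx n P).map vecAt) hP A 0 hAlen.2 (by omega)
    rw [List.length_map, idx_length] at e
    have h3 := Nat.eq_of_beq_eq_true h2
    rw [e, List.map_map] at h3
    have h4 := packL_inj _ _ (by simp [idx_length])
      (fun a ha => by obtain ⟨p, -, rfl⟩ := List.mem_map.1 ha; exact J4Rep.app_lt hAlen.2 _)
      (fun a ha => by obtain ⟨p, -, rfl⟩ := List.mem_map.1 ha; exact vecAt_lt p) h3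
    obtain ⟨c, hc', rfl⟩ := (testBit_bitmap id _ q).1 hq
    obtain ⟨m, hm, hmc⟩ := List.getElem_of_mem hc'
    have hm' : m < (idx n P).length := by rw [idx_length]; rwa [idx_length] at hm
    have h5 := List.getElem_of_eq h4 (i := m) (by simpa using hm')
    simp only [List.getElem_map, Function.comp_apply, Nat.shiftRight_zero, hmc] at h5
    rw [hA, matrix_apply _ (vecAt_lt _)] at h5
    refine hQ g _ _ hg ?_ (hM _ (testBit_of_land (h1 _ (List.getElem_mem hm'))))
    rw [List.getD_eq_getElem _ _ hg]
    exact h5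

theorem runBlocks_sound (ws : List (List ℕ)) (Q : ℕ → Prop)
    (hQ : ∀ g p c, g < ws.length → runW tbl2 (ws.getD g []) (vecAt p) = vecAt c → Q p → Q c) :
    ∀ (bs : List (ℕ × ℕ × ℕ × ℕ)) {M : ℕ}, (∀ p, M.testBit p = true → Q p) →
      ∀ p, (runBlocks (ws.map fun w => runAll tbl2 (ones 112) w (packL (units 112))) bs M).testBit p = true → Q p
  | [], _, hM => hM
  | b :: bs, M, hM => by
    intro p hp
    have hp' : (strict (blockStep (ws.map fun w => runAll tbl2 (ones 112) w (packL (units 112))) M b)
        (runBlocks (ws.map fun w => runAll tbl2 (ones 112) w (packL (units 112))) bs)).testBit p = true := hp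
    rw [strict_eq] at hp'
    exact runBlocks_sound ws Q hQ bs (blockStep_sound ws Q hQ b hM) p hp'

theorem treeOK_sound {ws : List (List ℕ)} {bs : List (ℕ × ℕ × ℕ × ℕ)} {rts : List ℕ}
    (h : treeOK ws bs rts = true) (Q : ℕ → Prop)
    (hQ : ∀ g p c, g < ws.length → runW tbl2 (ws.getD g []) (vecAt p) = vecAt c → Q p → Q c)
    (hr : ∀ r ∈ rts, Q r) {p : ℕ} (hp : p < 15180) : Q p := by
  rw [treeOK, withMats_eq] at h
  refine runBlocks_sound ws Q hQ bs (M := bitmap id rts) (fun q hq => ?_) p ?_
  · obtain ⟨r, hr', rfl⟩ := (testBit_bitmap id _ q).1 hq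
    exact hr r hr'
  · rw [Nat.eq_of_beq_eq_true h]
    show ((1 <<< 15180) - 1).testBit p = true
    rw [Nat.one_shiftLeft, Nat.testBit_two_pow_sub_one]
    simpa using hp

/-- Increasing from above `prev`; the last one plus one, or 0 on failure. -/
noncomputable def incr (l : List ℕ) : ℕ → ℕ :=
  List.rec (motive := fun _ => ℕ → ℕ) (fun s => s)
    (fun x _ ih s => cond (Nat.ble s x) (strict (Nat.succ x) ih) 0) l

/-- The rank blocks give increasing vectors, and there are 15180 of them. -/
noncomputable def distinctOK (bs : List (ℕ × ℕ)) : Bool :=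
  Nat.blt 0 (List.rec (motive := fun _ => ℕ → ℕ) (fun s => s)
    (fun b _ ih s => strict (incr ((idx b.1 b.2).map vecAt) s) fun t => cond (Nat.beq t 0) 0 (ih t)) bs 1) &&
  Nat.beq (bs.map (fun b => b.1)).sum 15180

end CfsgLib.Sporadic.J4Order
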