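import Cfsg.Agent.Lib.Sporadic.J4Order.Packed
import Cfsg.Agent.Lib.Sporadic.J4Order.DataE
import Cfsg.Agent.Lib.Sporadic.J4Rep.Hom

/-!
# Words in the generators of J4 and eleven translations, as permutations (owner: helper21)

Letters 0 to 5 are those of `J4Rep`; letters 6 to 16 are translations.
-/

set_option autoImplicit false
set_option maxRecDepth 40000

namespace CfsgLib.Sporadic.J4Order

open CfsgLib.Sporadic.J4Rep (V app runW tbl app_lt letter letter_apply)

/-- The table of the seventeen letters. -/
noncomputable def tbl2 (k : ℕ) : List ℕ := cond (Nat.blt k 6) (tbl k) (eMats.getD (k - 6) [])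

theorem tbl2_check : (List.range 17).all
    (fun k => Nat.ble (tbl2 k).length 112 && (tbl2 k).all fun c => Nat.blt c (2 ^ 112)) = true := by
  decide +kernel

theorem tableOK : TableOK tbl2 := by
  intro k
  by_cases hk : k < 17
  · have h := List.all_eq_true.1 tbl2_check k (List.mem_range.2 hk)
    rw [Bool.and_eq_true, List.all_eq_true] at h
    exact ⟨Nat.le_of_ble_eq_true h.1, fun c hc => by simpa using h.2 c hc⟩
  · have e : tbl2 k = [] := by
      have h6 : Nat.blt k 6 = false := Bool.eq_false_iff.2 fun h => hk (by simp at h; omega)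
      rw [tbl2, h6, cond_false, List.getD_eq_default]
      rw [show eMats.length = 11 from rfl]
      omega
    simp [e]

/-- The inverse of a letter. -/
noncomputable def inv2 (k : ℕ) : ℕ := cond (Nat.blt k 6) (k ^^^ 1) k

theorem inv2_lt {k : ℕ} (hk : k < 17) : inv2 k < 17 := by interval_cases k <;> decide +kernel

theorem inv2_inv2 {k : ℕ} (hk : k < 17) : inv2 (inv2 k) = k := by interval_cases k <;> decide +kernel

theorem inv2_check : (List.range 17).all (fun k => sameMap tbl2 [inv2 k, k] []) = true := by decide +kernel

theorem app_inv2_app {k : ℕ} (hk : k < 17) {v : ℕ} (hv : v < 2 ^ 112) :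
    app (tbl2 (inv2 k)) (app (tbl2 k) v) = v :=
  sameMap_sound tableOK (List.all_eq_true.1 inv2_check k (List.mem_range.2 hk)) hv

/-- A letter as a permutation of the vectors. -/
noncomputable def let2 (k : ℕ) : Equiv.Perm V :=
  if hk : k < 17 then
    { toFun := fun v => ⟨app (tbl2 k) v.1, app_lt (tableOK k).2 v.1⟩
      invFun := fun v => ⟨app (tbl2 (inv2 k)) v.1, app_lt (tableOK (inv2 k)).2 v.1⟩
      left_inv := fun v => Subtype.ext (app_inv2_app hk v.2)
      right_inv := fun v => Subtype.ext (by
        have h := app_inv2_app (inv2_lt hk) v.2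
        rwa [inv2_inv2 hk] at h) }
  else 1

theorem let2_apply {k : ℕ} (hk : k < 17) (v : V) : (let2 k v).1 = app (tbl2 k) v.1 := by simp [let2, hk]

theorem let2_inv {k : ℕ} (hk : k < 17) : (let2 k)⁻¹ = let2 (inv2 k) := by
  apply Equiv.ext
  intro v
  apply Subtype.ext
  rw [let2_apply (inv2_lt hk)]
  simp [let2, hk]

theorem let2_eq_letter {k : ℕ} (hk : k < 6) : let2 k = letter k := by
  apply Equiv.ext
  intro v
  apply Subtype.ext
  rw [let2_apply (by omega), letter_apply hk, tbl2, show Nat.blt k 6 = true by simpa using hk]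
  rfl

/-- The permutation of a word, the last letter acting first. -/
noncomputable def el (w : List ℕ) : Equiv.Perm V := (w.map let2).prod

theorem el_nil : el [] = 1 := rfl

theorem el_single (k : ℕ) : el [k] = let2 k := by simp [el]

theorem el_cons (k : ℕ) (w : List ℕ) : el (k :: w) = let2 k * el w := by simp [el]

theorem el_append (u w : List ℕ) : el (u ++ w) = el u * el w := by simp [el]

/-- All letters are among the seventeen. -/
noncomputable def okW (w : List ℕ) : Bool := w.all fun k => Nat.blt k 17

theorem okW_iff {w : List ℕ} : okW w = true ↔ ∀ k ∈ w, k < 17 := by simp [okW]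

theorem el_apply : ∀ {w : List ℕ}, (∀ k ∈ w, k < 17) → ∀ v : V, (el w v).1 = runW tbl2 w v.1
  | [], _, _ => rfl
  | k :: w, h, v => by
    rw [el_cons, Equiv.Perm.mul_apply, let2_apply (h k List.mem_cons_self),
      el_apply fun j hj => h j (List.mem_cons_of_mem _ hj)]
    rfl

/-- The inverse word. -/
noncomputable def invW (w : List ℕ) : List ℕ := (w.map inv2).reverse

theorem el_invW : ∀ {w : List ℕ}, (∀ k ∈ w, k < 17) → el (invW w) = (el w)⁻¹
  | [], _ => by simp [invW, el_nil]
  | k :: w, h => by
    have e : invW (k :: w) = invW w ++ [inv2 k] := by simp [invW]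
    rw [e, el_append, el_single, el_invW fun j hj => h j (List.mem_cons_of_mem _ hj), el_cons, mul_inv_rev,
      let2_inv (h k List.mem_cons_self)]

/-- The check that two words give one permutation. -/
noncomputable def eqW (w w' : List ℕ) : Bool := okW w && okW w' && sameMap tbl2 w w'

theorem el_eq {w w' : List ℕ} (h : eqW w w' = true) : el w = el w' := by
  simp only [eqW, Bool.and_eq_true] at h
  obtain ⟨⟨h1, h2⟩, h3⟩ := h
  apply Equiv.ext
  intro v
  apply Subtype.ext
  rw [el_apply (okW_iff.1 h1), el_apply (okW_iff.1 h2)]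
  exact sameMap_sound tableOK h3 v.2

/-- A word from its code: `n` letters, eight bits each. -/
noncomputable def wd (n : ℕ) : ℕ → List ℕ :=
  Nat.rec (motive := fun _ => ℕ → List ℕ) (fun _ => [])
    (fun _ ih P => Nat.land P 255 :: ih (Nat.shiftRight P 8)) n

/-- The vectors form a finite type. -/
noncomputable instance : Finite V := Finite.of_injective (fun v : V => (⟨v.1, v.2⟩ : Fin (2 ^ 112)))
  (fun a b h => Subtype.ext (congrArg Fin.val h))

end CfsgLib.Sporadic.J4Order
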